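import Mathlib

/-!
A group of order 64 in the alternating group of degree 8 without commuting elements with two different
non-trivial squares.
-/

set_option autoImplicit false
set_option maxRecDepth 100000
set_option linter.style.nativeDecide false

namespace CfsgLib.AltSection

open Equiv

/-- Generators of a Sylow 2-subgroup of the alternating group of degree 8. -/
def a8Gens : List (Perm (Fin 8)) :=
  [swap 0 1 * swap 2 3, swap 0 2 * swap 1 3, swap 4 5 * swap 6 7, swap 4 6 * swap 5 7, swap 0 1 * swap 4 5,
    swap 0 4 * swap 1 5 * swap 2 6 * swap 3 7]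

/-- The 64 elements. -/
def a8Elems : List (Perm (Fin 8)) :=
  a8Gens.foldl (fun L g => L ++ L.map (fun x => g * x)) [1]

/-- Base-eight code of a permutation of eight points. -/
def code (x : Perm (Fin 8)) : ℕ :=
  (x 0).val + (x 1).val * 8 + (x 2).val * 64 + (x 3).val * 512 + (x 4).val * 4096 + (x 5).val * 32768 +
    (x 6).val * 262144 + (x 7).val * 2097152

/-- A digit of a code. -/
def dg (n i : ℕ) : ℕ := n / 8 ^ i % 8

/-- The product of two codes. -/
def mulC (a b : ℕ) : ℕ :=
  dg a (dg b 0) + dg a (dg b 1) * 8 + dg a (dg b 2) * 64 + dg a (dg b 3) * 512 + dg a (dg b 4) * 4096 +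
    dg a (dg b 5) * 32768 + dg a (dg b 6) * 262144 + dg a (dg b 7) * 2097152

/-- The codes of the 64 elements. -/
def a8Codes : List ℕ :=
   [16434824, 16434369, 16433690, 16433235, 14571144, 14570689, 14570010, 14569555,
    11789960, 11789505, 11788826, 11788371, 9926280, 9925825, 9925146, 9924691,
    16406145, 16405704, 16404570, 16405011, 14599809, 14599368, 14598234, 14598675,
    9954945, 9954504, 9953370, 9953811, 11761281, 11760840, 11759706, 11760147,
    6852524, 6852069, 6851390, 6850935, 4988844, 4988389, 4987710, 4987255,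
    2207660, 2207205, 2206526, 2206071, 343980, 343525, 342846, 342391,
    6823845, 6823404, 6822270, 6822711, 5017509, 5017068, 5015934, 5016375,
    372645, 372204, 371070, 371511, 2178981, 2178540, 2177406, 2177847]

theorem dg_code (x : Perm (Fin 8)) (i : Fin 8) : dg (code x) i.val = (x i).val := by
  have h0 := (x 0).isLt
  have h1 := (x 1).isLt
  have h2 := (x 2).isLt
  have h3 := (x 3).isLt
  have h4 := (x 4).isLt
  have h5 := (x 5).isLt
  have h6 := (x 6).isLt
  have h7 := (x 7).isLt
  unfold dg code
  fin_cases i <;> simp only [Fin.reduceFinMk, Fin.isValue] <;> norm_num <;> omega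

theorem code_injective : Function.Injective code := fun x y h =>
  Equiv.ext fun i => Fin.ext (by rw [← dg_code x i, h, dg_code y i])

theorem code_mul (a b : Perm (Fin 8)) : code (a * b) = mulC (code a) (code b) := by
  have h : ∀ i : Fin 8, dg (code a) (dg (code b) i.val) = ((a * b) i).val := fun i => by
    rw [dg_code b i, dg_code a (b i)]; rfl
  simp only [mulC]
  rw [show dg (code b) 0 = dg (code b) (0 : Fin 8).val from rfl,
    show dg (code b) 1 = dg (code b) (1 : Fin 8).val from rfl,
    show dg (code b) 2 = dg (code b) (2 : Fin 8).val from rfl,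
    show dg (code b) 3 = dg (code b) (3 : Fin 8).val from rfl,
    show dg (code b) 4 = dg (code b) (4 : Fin 8).val from rfl,
    show dg (code b) 5 = dg (code b) (5 : Fin 8).val from rfl,
    show dg (code b) 6 = dg (code b) (6 : Fin 8).val from rfl,
    show dg (code b) 7 = dg (code b) (7 : Fin 8).val from rfl, h, h, h, h, h, h, h, h]
  rfl

theorem code_one : code 1 = 16434824 := by simp [code]

theorem a8Gens_code : a8Gens.map code = [16434369, 16433690, 14571144, 11789960, 16406145, 6852524] := by
  simp [a8Gens, code, Equiv.Perm.mul_apply, Equiv.swap_apply_def]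

theorem map_foldl {α β : Type} (f : α → β) (ma : α → α → α) (mb : β → β → β)
    (h : ∀ g x, f (ma g x) = mb (f g) (f x)) (Gs : List α) : ∀ M : List α,
    (Gs.foldl (fun L g => L ++ L.map (ma g)) M).map f =
      (Gs.map f).foldl (fun L c => L ++ L.map (mb c)) (M.map f) := by
  induction Gs with
  | nil => intro M; rfl
  | cons g Gs ih =>
    intro M
    rw [List.foldl_cons, ih, List.map_cons, List.foldl_cons, List.map_append, List.map_map, List.map_map,
      show f ∘ ma g = mb (f g) ∘ f from funext fun x => h g x]

theorem a8Codes_eq : a8Elems.map code = a8Codes := by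
  unfold a8Elems
  rw [map_foldl code (fun g x => g * x) mulC code_mul, a8Gens_code, List.map_singleton, code_one]
  decide +kernel

theorem a8Gens_sq : ∀ c ∈ a8Gens.map code, mulC c c = 16434824 := by
  rw [a8Gens_code]; decide +kernel

theorem a8Gens_inv : ∀ g ∈ a8Gens, g * g = 1 ∧ Perm.sign g = 1 := by
  intro g hg
  refine ⟨code_injective (by rw [code_mul, a8Gens_sq _ (List.mem_map_of_mem hg), code_one]), ?_⟩
  simp only [a8Gens, List.mem_cons, List.not_mem_nil, or_false] at hg
  rcases hg with rfl | rfl | rfl | rfl | rfl | rfl <;> simp [Perm.sign_swap']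

theorem a8Elems_card : a8Elems.Nodup ∧ a8Elems.length = 64 := by
  refine ⟨List.Nodup.of_map code (a8Codes_eq ▸ (by decide +kernel : a8Codes.Nodup)), ?_⟩
  rw [← List.length_map (f := code), a8Codes_eq]
  rfl

theorem a8Codes_mul : ∀ g ∈ a8Gens.map code, ∀ x ∈ a8Codes, mulC g x ∈ a8Codes := by
  rw [a8Gens_code]; decide +kernel

theorem mem_of_code {x : Perm (Fin 8)} (h : code x ∈ a8Codes) : x ∈ a8Elems := by
  rw [← a8Codes_eq] at h
  obtain ⟨y, hy, e⟩ := List.mem_map.mp h
  exact code_injective e ▸ hy

theorem code_mem {x : Perm (Fin 8)} (h : x ∈ a8Elems) : code x ∈ a8Codes :=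
  a8Codes_eq ▸ List.mem_map_of_mem h

theorem a8Elems_mul : ∀ g ∈ a8Gens, ∀ x ∈ a8Elems, g * x ∈ a8Elems := fun g hg x hx =>
  mem_of_code (by rw [code_mul]; exact a8Codes_mul _ (List.mem_map_of_mem hg) _ (code_mem hx))

theorem a8Codes_sq : ∀ a ∈ a8Codes, ∀ b ∈ a8Codes, mulC a b = mulC b a →
    mulC a a = 16434824 ∨ mulC b b = 16434824 ∨ mulC a a = mulC b b := by
  decide +kernel

theorem a8Elems_sq : ∀ a ∈ a8Elems, ∀ b ∈ a8Elems, a * b = b * a → a * a = 1 ∨ b * b = 1 ∨ a * a = b * b := by
  intro a ha b hb hab
  rcases a8Codes_sq _ (code_mem ha) _ (code_mem hb) (by rw [← code_mul, ← code_mul, hab]) with h | h | h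
  · left; exact code_injective (by rw [code_mul, h, code_one])
  · right; left; exact code_injective (by rw [code_mul, h, code_one])
  · right; right; exact code_injective (by rw [code_mul, code_mul, h])

/-- A Sylow 2-subgroup of the alternating group of degree 8. -/
def a8Two : Subgroup (Perm (Fin 8)) := Subgroup.closure {g | g ∈ a8Gens}

theorem mem_a8Two_iff {x : Perm (Fin 8)} : x ∈ a8Two ↔ x ∈ a8Elems := by
  constructor
  · intro hx
    induction hx using Subgroup.closure_induction_left with
    | one => exact mem_of_code (by rw [code_one]; decide +kernel)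
    | mul_left g hg y _ ih => exact a8Elems_mul g hg y ih
    | inv_mul_cancel g hg y _ ih =>
      rw [inv_eq_of_mul_eq_one_right (a8Gens_inv g hg).1]
      exact a8Elems_mul g hg y ih
  · have hgen : ∀ (L : List (Perm (Fin 8))) (M : List (Perm (Fin 8))), (∀ g ∈ L, g ∈ a8Gens) →
        (∀ y ∈ M, y ∈ a8Two) → ∀ y ∈ L.foldl (fun L g => L ++ L.map (fun x => g * x)) M, y ∈ a8Two := by
      intro L
      induction L with
      | nil => intro M _ hM y hy; exact hM y hy
      | cons g L ih =>
        intro M hL hM
        rw [List.foldl_cons]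
        refine ih _ (fun h hh => hL h (List.mem_cons_of_mem _ hh)) fun y hy => ?_
        rcases List.mem_append.mp hy with h | h
        · exact hM y h
        · obtain ⟨z, hz, rfl⟩ := List.mem_map.mp h
          exact mul_mem (Subgroup.subset_closure (hL g List.mem_cons_self)) (hM z hz)
    exact fun hx => hgen a8Gens [1] (fun g hg => hg)
      (fun y hy => by rw [List.mem_singleton] at hy; rw [hy]; exact one_mem _) x hx

theorem card_a8Two : Nat.card a8Two = 64 := by
  rw [← a8Elems_card.2, ← List.toFinset_card_of_nodup a8Elems_card.1]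
  have e : (a8Two : Set (Perm (Fin 8))) = ↑a8Elems.toFinset := by
    ext x; simp [mem_a8Two_iff]
  rw [← SetLike.coe_sort_coe, Nat.card_coe_set_eq, e, Set.ncard_coe_finset]

theorem a8Two_le : a8Two ≤ alternatingGroup (Fin 8) := by
  rw [a8Two, Subgroup.closure_le]
  exact fun g hg => (a8Gens_inv g hg).2

end CfsgLib.AltSection
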