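import Cfsg.Agent.Lib.AltSection.Frobenius
import Cfsg.Agent.Lib.Chev.Longest
import Cfsg.Agent.Lib.Chev.FieldFixed
import Cfsg.Agent.Lib.Chev.TorusOrder

/-!
Split tori in Chevalley groups: field extension, fusion inside the torus, and ℓ-subgroups conjugate into the torus
or its normaliser.
-/

set_option autoImplicit false
set_option linter.unusedSectionVars false
set_option linter.style.haveILetI false

namespace CfsgLib.Chev.Chev

open Cfsg.Lie Matrix

universe u v

variable {D : ChevalleyDatum} (Φ : Chev D) {F : Type u} [Field F]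

include Φ in
/-- A Chevalley group embeds in one over a finite field whose order is 1 modulo a given number prime to p. -/
theorem exists_big_field [Finite F] (p : ℕ) [Fact p.Prime] [CharP F p] {k : ℕ} (hk : 0 < k) (hcop : p.Coprime k) :
    ∃ (F' : Type) (_ : Field F') (_ : Finite F') (_ : CharP F' p) (ι : ↥(D.group F) →* ↥(D.group F')),
      Function.Injective ι ∧ Nat.card F' % k = 1 % k := by
  have : NeZero k.totient := ⟨(Nat.totient_pos.mpr hk).ne'⟩
  let f := algebraMap F (FiniteField.Extension F p k.totient)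
  refine ⟨FiniteField.Extension F p k.totient, inferInstance, inferInstance, ?_,
    ((Matrix.GeneralLinearGroup.map f).comp (D.group F).subtype).codRestrict _
      (fun x => Φ.map_mem_group f x.2), ?_, ?_⟩
  · exact charP_of_injective_ringHom f.injective p
  · intro x y h
    have h' : ((x : GL D.Idx F) : Matrix D.Idx D.Idx F).map f = ((y : GL D.Idx F) : Matrix D.Idx D.Idx F).map f :=
      congrArg Units.val (congrArg Subtype.val h)
    exact Subtype.ext (Units.ext (Matrix.map_injective f.injective h'))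
  · rw [FiniteField.natCard_extension]
    haveI := Fintype.ofFinite F
    obtain ⟨n, hp, hn⟩ := FiniteField.card F p
    have hc : (Nat.card F).Coprime k := by
      rw [Nat.card_eq_fintype_card, hn]
      exact Nat.Coprime.pow_left _ hcop
    exact Nat.ModEq.pow_totient hc

/-- An element acts on the torus elements it keeps in the torus as one monomial element. -/
theorem torus_fusion {g : GL D.Idx F} (hg : g ∈ D.group F) :
    ∃ n ∈ D.monomialSubgroup F, ∃ π ∈ Φ.WL, Φ.Mono n π ∧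
      ∀ x ∈ D.diagonalSubgroup F, g * x * g⁻¹ ∈ D.diagonalSubgroup F → g * x * g⁻¹ = n * x * n⁻¹ := by
  obtain ⟨b, hbB, n, hn, π, hπ, hm, u, hu, rfl⟩ := Φ.exists_normal_form hg
  refine ⟨n, hn, π, hπ, hm, fun x hx hy => ?_⟩
  set y := b * n * u * x * (b * n * u)⁻¹ with hy'
  set t := n * x * n⁻¹ with ht
  have htH : t ∈ D.diagonalSubgroup F :=
    (Subgroup.mem_normalizer_iff.mp (Φ.N_le_normalizer_H hn) x).mp hx
  have hux : x⁻¹ * u * x ∈ Φ.Uneg F π := by
    have := (Subgroup.mem_normalizer_iff.mp (Φ.H_le_normalizer_US _ (inv_mem hx)) u).mp hu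
    rwa [inv_inv] at this
  have e : y * b * n * u = b * t * n * (x⁻¹ * u * x) := by rw [hy', ht]; group
  obtain ⟨eb, -⟩ := Φ.normal_form_unique hm (mul_mem (H_le_B hy) hbB) (mul_mem hbB (H_le_B htH)) hu hux e
  obtain ⟨v, hv, z, hz, rfl⟩ := Φ.mem_B_iff.mp hbB
  have hvy : y * v * y⁻¹ ∈ D.posUnipotent F :=
    (Subgroup.mem_normalizer_iff.mp (Φ.H_le_normalizer_U hy) v).mp hv
  have e2 : v⁻¹ * (y * v * y⁻¹) = z * t * (y * z)⁻¹ := by
    calc v⁻¹ * (y * v * y⁻¹) = v⁻¹ * (y * (v * z)) * (y * z)⁻¹ := by group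
      _ = v⁻¹ * (v * z * t) * (y * z)⁻¹ := by rw [eb]
      _ = _ := by group
  have h1 := Φ.eq_one_of_mem_U_of_mem_N (mul_mem (inv_mem hv) hvy)
    (e2 ▸ H_le_N (mul_mem (mul_mem hz htH) (inv_mem (mul_mem hy hz))))
  rw [e2, mul_inv_eq_one, Φ.H_comm hz htH] at h1
  exact (mul_right_cancel h1).symm

include Φ in
/-- A subgroup of prime-power order is conjugate into a subgroup of prime-to-ℓ index. -/
theorem exists_conj_mem {G : Type v} [Group G] [Finite G] {ℓ : ℕ} [Fact ℓ.Prime] (T : Subgroup G)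
    (hidx : ¬ ℓ ∣ T.index) {Q : Subgroup G} (hQ : IsPGroup ℓ Q) : ∃ x : G, ∀ q ∈ Q, x * q * x⁻¹ ∈ T := by
  obtain ⟨S₀⟩ : Nonempty (Sylow ℓ ↥T) := inferInstance
  have hS : ¬ ℓ ∣ ((S₀ : Subgroup ↥T).map T.subtype).index := by
    rw [Subgroup.index_map_subtype]
    exact Nat.Prime.not_dvd_mul Fact.out S₀.not_dvd_index hidx
  obtain ⟨R, hR⟩ := hQ.exists_le_sylow
  obtain ⟨x, hx⟩ := MulAction.exists_smul_eq G R ((S₀.isPGroup'.map T.subtype).toSylow hS)
  refine ⟨x, fun p hp => ?_⟩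
  have h1 : MulAut.conj x p ∈ ((x • R : Sylow ℓ G) : Subgroup G) := by
    rw [Sylow.coe_subgroup_smul]
    exact Subgroup.smul_mem_pointwise_smul p (MulAut.conj x) _ (hR hp)
  rw [hx] at h1
  obtain ⟨⟨y, hy⟩, -, e⟩ := h1
  have e' : x * p * x⁻¹ = y := e.symm
  rw [e']
  exact hy

/-- If the torus has index prime to ℓ, normalisers of ℓ-subgroups act through the Weyl group. -/
theorem automiser_bound [Finite F] {ℓ e : ℕ} [Fact ℓ.Prime]
    (hidx : ¬ ℓ ∣ ((D.diagonalSubgroup F).subgroupOf (D.group F)).index)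
    (he : ∀ π ∈ Φ.WL, π ^ e = 1) (Q : Subgroup ↥(D.group F)) (hQ : IsPGroup ℓ Q) (g : ↥(D.group F))
    (hg : ∀ q ∈ Q, g * q * g⁻¹ ∈ Q) : ∀ q ∈ Q, g ^ e * q * (g ^ e)⁻¹ = q := by
  intro q hq
  obtain ⟨x, hx⟩ := Φ.exists_conj_mem _ hidx hQ
  have hin : ∀ p ∈ Q, ((x * p * x⁻¹ : ↥(D.group F)) : GL D.Idx F) ∈ D.diagonalSubgroup F :=
    fun p hp => Subgroup.mem_subgroupOf.mp (hx p hp)
  obtain ⟨n, hnN, w, hw, hnm, hfus⟩ := Φ.torus_fusion (g := ((x * g * x⁻¹ : ↥(D.group F)) : GL D.Idx F))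
    (x * g * x⁻¹ : ↥(D.group F)).2
  have key : ∀ k : ℕ, g ^ k * q * (g ^ k)⁻¹ ∈ Q ∧
      ((x * (g ^ k * q * (g ^ k)⁻¹) * x⁻¹ : ↥(D.group F)) : GL D.Idx F) =
        n ^ k * ((x * q * x⁻¹ : ↥(D.group F)) : GL D.Idx F) * (n ^ k)⁻¹ := by
    intro k
    induction k with
    | zero => simp [hq]
    | succ k ih =>
      obtain ⟨ih1, ih2⟩ := ih
      have e : g ^ (k + 1) * q * (g ^ (k + 1))⁻¹ = g * (g ^ k * q * (g ^ k)⁻¹) * g⁻¹ := by
        rw [pow_succ']; group
      rw [e]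
      refine ⟨hg _ ih1, ?_⟩
      set p := g ^ k * q * (g ^ k)⁻¹ with hp
      have e1 : x * (g * p * g⁻¹) * x⁻¹ = (x * g * x⁻¹) * (x * p * x⁻¹) * (x * g * x⁻¹)⁻¹ := by group
      have h2 := hin _ (hg _ ih1)
      rw [e1, Subgroup.coe_mul, Subgroup.coe_mul, Subgroup.coe_inv] at h2 ⊢
      rw [hfus _ (hin p ih1) h2, ih2, pow_succ']
      group
  have hne : n ^ e ∈ D.diagonalSubgroup F := by
    rw [Φ.mem_H_iff_mono_one (pow_mem hnN e)]
    have hp : ∀ k, Φ.Mono (n ^ k) (w ^ k) := by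
      intro k
      induction k with
      | zero => rw [pow_zero, pow_zero]; exact Mono.one _
      | succ k ih => rw [pow_succ, pow_succ]; exact Mono.mul _ ih hnm
    exact he w hw ▸ hp e
  have hfin : (x * (g ^ e * q * (g ^ e)⁻¹) * x⁻¹ : ↥(D.group F)) = x * q * x⁻¹ := by
    refine Subtype.ext ((key e).2.trans ?_)
    rw [Φ.H_comm hne (hin q hq), mul_inv_cancel_right]
  exact mul_left_cancel (mul_right_cancel hfin)

/-- The torus has index |W| in the monomial subgroup. -/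
theorem relIndex_H_N [Finite F] :
    (D.diagonalSubgroup F).relIndex (D.monomialSubgroup F) = Nat.card Φ.WL := by
  classical
  choose w hw hwm _ using fun g : ↥(D.monomialSubgroup F) => Φ.exists_mono_W g.2
  let f : ↥(D.monomialSubgroup F) →* ↥Φ.WL :=
    { toFun := fun g => ⟨w g, hw g⟩
      map_one' := Subtype.ext (Mono.unique Φ (hwm 1) (Mono.one Φ))
      map_mul' := fun a b => Subtype.ext (Mono.unique Φ (hwm (a * b)) (Mono.mul Φ (hwm a) (hwm b))) }
  have hs : Function.Surjective f := fun π => by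
    obtain ⟨n, hn, hm⟩ := Φ.exists_preimage F π.2
    exact ⟨⟨n, hn⟩, Subtype.ext (Mono.unique Φ (hwm _) hm)⟩
  have hk : f.ker = (D.diagonalSubgroup F).subgroupOf (D.monomialSubgroup F) := by
    ext g
    rw [MonoidHom.mem_ker, Subgroup.mem_subgroupOf, Φ.mem_H_iff_mono_one g.2]
    refine ⟨fun h => ?_, fun h => Subtype.ext (Mono.unique Φ (hwm g) h)⟩
    have h1 : w g = 1 := congrArg Subtype.val h
    exact h1 ▸ hwm g
  rw [Subgroup.relIndex, ← hk, Subgroup.index_ker, MonoidHom.range_eq_top.mpr hs, Subgroup.card_top]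

end CfsgLib.Chev.Chev
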