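import Cfsg.Agent.Lib.AltSection.SylowA8

/-!
Sections: lifting a p-subgroup of a quotient, moving a section along an injection, alternating subgroups of
smaller degree.
-/

set_option autoImplicit false
set_option linter.style.haveILetI false

namespace CfsgLib.AltSection

/-- The alternating group of a smaller degree inside that of a larger one. -/
noncomputable def altEmb {k r : ℕ} (h : k ≤ r) : ↥(alternatingGroup (Fin k)) →* ↥(alternatingGroup (Fin r)) :=
  ((Equiv.Perm.viaEmbeddingHom (Fin.castLEEmb h)).comp (alternatingGroup (Fin k)).subtype).codRestrict _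
    (fun p => by
      rw [Equiv.Perm.mem_alternatingGroup, ← p.2]
      simp only [MonoidHom.coe_comp, Function.comp_apply, Subgroup.coe_subtype,
        Equiv.Perm.viaEmbeddingHom_apply, Equiv.Perm.viaEmbedding]
      convert Equiv.Perm.sign_extendDomain (p : Equiv.Perm (Fin k))
        (Equiv.ofInjective (Fin.castLEEmb h).1 (Fin.castLEEmb h).2))

theorem altEmb_injective {k r : ℕ} (h : k ≤ r) : Function.Injective (altEmb h) := fun a b e =>
  Subtype.ext (Equiv.Perm.viaEmbeddingHom_injective _ (congrArg Subtype.val e))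

/-- A section pushed along an injective homomorphism. -/
theorem exists_section_map {G G' M : Type*} [Group G] [Group G'] [Group M] (ι : G →* G')
    (hι : Function.Injective ι) (H : Subgroup G) (π : ↥H →* M) (hπ : Function.Surjective π) :
    ∃ (H' : Subgroup G') (π' : ↥H' →* M), Function.Surjective π' :=
  ⟨H.map ι, π.comp (H.equivMapOfInjective ι hι).symm.toMonoidHom, hπ.comp (H.equivMapOfInjective ι hι).symm.surjective⟩

/-- A p-subgroup of a section is the image of a p-subgroup. -/
theorem exists_lift_pgroup {G M : Type*} [Group G] [Group M] [Finite G] {p : ℕ} [Fact p.Prime]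
    (H : Subgroup G) (π : ↥H →* M) (hπ : Function.Surjective π) (P : Subgroup M) (hP : IsPGroup p P) :
    ∃ (R : Subgroup G) (f : ↥R →* ↥P), IsPGroup p R ∧ Function.Surjective f := by
  haveI : Finite M := Finite.of_surjective π hπ
  let Hp : Subgroup ↥H := P.comap π
  let ρ : ↥Hp →* ↥P := (π.comp Hp.subtype).codRestrict P fun x => x.2
  have hρ : Function.Surjective ρ := by
    rintro ⟨y, hy⟩
    obtain ⟨x, rfl⟩ := hπ y
    exact ⟨⟨x, hy⟩, rfl⟩
  obtain ⟨S⟩ : Nonempty (Sylow p ↥Hp) := inferInstance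
  have htop : (S : Subgroup ↥Hp).map ρ = ⊤ :=
    ((S.mapSurjective hρ).is_maximal' (hP.of_equiv Subgroup.topEquiv.symm) le_top).symm
  let j : ↥Hp →* G := H.subtype.comp Hp.subtype
  have hj : Function.Injective j := H.subtype_injective.comp Hp.subtype_injective
  refine ⟨(S : Subgroup ↥Hp).map j,
    (ρ.comp (S : Subgroup ↥Hp).subtype).comp ((S : Subgroup ↥Hp).equivMapOfInjective j hj).symm.toMonoidHom,
    S.isPGroup'.map j, ?_⟩
  intro y
  have hy : y ∈ (S : Subgroup ↥Hp).map ρ := htop ▸ Subgroup.mem_top y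
  obtain ⟨x, hx, rfl⟩ := hy
  refine ⟨(S : Subgroup ↥Hp).equivMapOfInjective j hj ⟨x, hx⟩, ?_⟩
  simp

/-- A homomorphic image of a 2-group with an abelian subgroup of index at most four having at most four
elements of square one is not the Sylow 2-subgroup of the alternating group of degree eight. -/
theorem no_a8Two {R : Type*} [Group R] [Finite R] (A : Subgroup R) (hA : A.index ≤ 4)
    (hcomm : ∀ a ∈ A, ∀ b ∈ A, a * b = b * a) (hsq : Nat.card {a : ↥A // a ^ 2 = 1} ≤ 4)
    (f : R →* ↥a8Two) (hf : Function.Surjective f) : False := by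
  classical
  let g : ↥A →* ↥(A.map f) := (f.comp A.subtype).codRestrict _ fun x => Subgroup.mem_map_of_mem f x.2
  have hg : Function.Surjective g := by
    rintro ⟨y, x, hx, rfl⟩
    exact ⟨⟨x, hx⟩, rfl⟩
  let s : ↥A →* ↥A :=
    { toFun := fun x => x ^ 2
      map_one' := one_pow 2
      map_mul' := fun x y => (show Commute x y from Subtype.ext (hcomm _ x.2 _ y.2)).mul_pow 2 }
  have hs : s.ker.index * Nat.card s.ker = Nat.card ↥A := Subgroup.index_mul_card _
  have hk : Nat.card s.ker ≤ 4 :=
    le_trans (le_of_eq (Nat.card_congr (Equiv.subtypeEquivRight fun x => Iff.rfl))) hsq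
  have hidx : (s.range.map g).index ∣ s.range.index := Subgroup.index_map_dvd _ hg
  have hsr : s.range.index ≤ 4 := by
    have h := s.range.card_mul_index
    rw [← Subgroup.index_ker] at h
    have hpos : 0 < s.ker.index := Nat.pos_of_ne_zero Subgroup.index_ne_zero_of_finite
    have e : s.range.index = Nat.card s.ker := Nat.eq_of_mul_eq_mul_left hpos (h.trans hs.symm)
    omega
  have hsm : (s.range.map g).index ≤ 4 :=
    le_trans (Nat.le_of_dvd (Nat.pos_of_ne_zero Subgroup.index_ne_zero_of_finite) hidx) hsr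
  have hcard := (A.map f).card_mul_index
  rw [card_a8Two] at hcard
  have hAm : (A.map f).index ≤ 4 :=
    le_trans (Nat.le_of_dvd (Nat.pos_of_ne_zero Subgroup.index_ne_zero_of_finite) (Subgroup.index_map_dvd _ hf)) hA
  have h16 : 16 ≤ Nat.card ↥(A.map f) := by nlinarith
  have h4 : 4 ≤ Nat.card ↥(s.range.map g) := by
    have h := (s.range.map g).card_mul_index
    nlinarith
  have hex : ∀ u : ↥(s.range.map g), ∃ a : ↥A, g (a ^ 2) = (u : ↥(A.map f)) := by
    rintro ⟨u, _, ⟨a, rfl⟩, rfl⟩
    exact ⟨a, rfl⟩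
  obtain ⟨u, v, hu, hv, huv⟩ : ∃ u v : ↥(s.range.map g), u ≠ 1 ∧ v ≠ 1 ∧ u ≠ v := by
    haveI := Fintype.ofFinite ↥(s.range.map g)
    rw [Nat.card_eq_fintype_card] at h4
    have h : 1 < ((Finset.univ : Finset ↥(s.range.map g)).erase 1).card := by
      rw [Finset.card_erase_of_mem (Finset.mem_univ _), Finset.card_univ]; omega
    obtain ⟨u, hu, v, hv, huv⟩ := Finset.one_lt_card.mp h
    exact ⟨u, v, Finset.ne_of_mem_erase hu, Finset.ne_of_mem_erase hv, huv⟩
  obtain ⟨a, ha⟩ := hex u
  obtain ⟨b, hb⟩ := hex v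
  let φ : ↥A → Equiv.Perm (Fin 8) := fun x => ((f (x : R) : ↥a8Two) : Equiv.Perm (Fin 8))
  have hval : ∀ x : ↥A, (((g (x ^ 2) : ↥(A.map f)) : ↥a8Two) : Equiv.Perm (Fin 8)) = φ x * φ x := by
    intro x
    show ((f ((x ^ 2 : ↥A) : R) : ↥a8Two) : Equiv.Perm (Fin 8)) = _
    rw [SubgroupClass.coe_pow, map_pow, SubgroupClass.coe_pow, pow_two]
  have hc : φ a * φ b = φ b * φ a := by
    simp only [φ]
    rw [← Subgroup.coe_mul, ← Subgroup.coe_mul, ← map_mul, ← map_mul, hcomm _ a.2 _ b.2]
  have e1 : ∀ (x : ↥A) (w : ↥(s.range.map g)), g (x ^ 2) = w → φ x * φ x = 1 → w = 1 := by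
    intro x w hw h1
    refine Subtype.ext (Subtype.ext (Subtype.ext ?_))
    rw [← hw]
    exact (hval x).trans h1
  rcases a8Elems_sq _ (mem_a8Two_iff.mp (f (a : R)).2) _ (mem_a8Two_iff.mp (f (b : R)).2) hc with h | h | h
  · exact hu (e1 a u ha h)
  · exact hv (e1 b v hb h)
  · refine huv (Subtype.ext (Subtype.ext (Subtype.ext ?_)))
    rw [← ha, ← hb]
    exact (hval a).trans (h.trans (hval b).symm)

end CfsgLib.AltSection
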