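import Cfsg.Agent.Lib.AltSection.ChevTorus
import Cfsg.Agent.Lib.AltSection.Transfer

/-!
A Chevalley group of rank two whose Sylow 2-subgroup lies in the normaliser of a split torus has no section
containing the alternating group of degree eight.
-/

set_option autoImplicit false
set_option linter.unusedSectionVars false
set_option linter.style.haveILetI false

namespace CfsgLib.Chev.Chev

open Cfsg.Lie Matrix CfsgLib.AltSection

universe u

variable {D : ChevalleyDatum} (Φ : Chev D) {F : Type u} [Field F]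

include Φ in
theorem card_torus_sq [Finite F] :
    Nat.card {h : ↥(D.diagonalSubgroup F) // h ^ 2 = 1} ≤ 2 ^ D.rank := by
  classical
  choose c hc using fun h : {h : ↥(D.diagonalSubgroup F) // h ^ 2 = 1} => Φ.exists_torus_of_mem_H h.1.2
  have hpm : ∀ h i, (c h i : F) = 1 ∨ (c h i : F) = -1 := by
    intro h i
    have h2 : Φ.toAlg.torus (c h ^ 2) = 1 := by
      rw [map_pow, ← hc h]
      exact congrArg Subtype.val h.2
    have e := congrArg (fun u : Fˣ => (u : F)) (congrFun (Φ.torus_injective (h2.trans (map_one _).symm)) i)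
    exact sq_eq_one_iff.mp (by simpa using e)
  let Φc : {h : ↥(D.diagonalSubgroup F) // h ^ 2 = 1} → (Fin D.rank → ↥({1, -1} : Finset F)) :=
    fun h i => ⟨(c h i : F), by simpa using hpm h i⟩
  have hinj : Function.Injective Φc := by
    intro a b e
    refine Subtype.ext (Subtype.ext ?_)
    rw [hc a, hc b]
    congr 1
    funext i
    exact Units.ext (congrArg Subtype.val (congrFun e i))
  refine le_trans (Nat.card_le_card_of_injective Φc hinj) ?_
  rw [Nat.card_fun, Nat.card_fin]
  refine Nat.pow_le_pow_left ?_ _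
  rw [Nat.card_eq_fintype_card, Fintype.card_coe]
  exact Finset.card_le_two

theorem no_a8_section [Finite F] (hrank : D.rank = 2) (hW : ¬ 8 ∣ Nat.card Φ.WL)
    (hidx : ¬ 2 ∣ ((D.monomialSubgroup F).subgroupOf (D.group F)).index)
    (H : Subgroup ↥(D.group F)) (π : ↥H →* ↥(alternatingGroup (Fin 8))) (hπ : Function.Surjective π) : False := by
  haveI := Fact.mk Nat.prime_two
  have hP : IsPGroup 2 ↥(a8Two.subgroupOf (alternatingGroup (Fin 8))) :=
    IsPGroup.of_card (n := 6) (by
      rw [Nat.card_congr (Subgroup.subgroupOfEquivOfLe a8Two_le).toEquiv, card_a8Two]; norm_num)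
  obtain ⟨R, f, hR, hf⟩ := exists_lift_pgroup H π hπ _ hP
  obtain ⟨x, hx⟩ := Φ.exists_conj_mem _ hidx hR
  let θ : ↥R →* ↥(D.monomialSubgroup F) :=
    MonoidHom.codRestrict ((D.group F).subtype.comp ((MulAut.conj x).toMonoidHom.comp R.subtype)) _
      (fun r => Subgroup.mem_subgroupOf.mp (hx r r.2))
  have hθ : Function.Injective θ := fun a b e => by
    exact Subtype.ext ((MulAut.conj x).injective
      (Subtype.ext (congrArg (fun z : ↥(D.monomialSubgroup F) => (z : GL D.Idx F)) e)))
  let T : Subgroup ↥(D.monomialSubgroup F) := (D.diagonalSubgroup F).subgroupOf (D.monomialSubgroup F)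
  let A : Subgroup ↥R := T.comap θ
  have hAN : A.index ∣ Nat.card Φ.WL := by
    rw [← Φ.relIndex_H_N (F := F)]
    haveI : T.Normal := (Subgroup.normal_subgroupOf_iff_le_normalizer H_le_N).mpr Φ.N_le_normalizer_H
    show (T.comap θ).index ∣ T.index
    rw [Subgroup.index_comap]
    exact Subgroup.relIndex_dvd_index_of_normal T θ.range
  have hAR : A.index ∣ Nat.card ↥R := A.index_dvd_card
  have hA : A.index ≤ 4 := by
    obtain ⟨k, hk⟩ := IsPGroup.iff_card.mp hR
    obtain ⟨j, -, hj⟩ := (Nat.dvd_prime_pow Nat.prime_two).mp (hk ▸ hAR)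
    rw [hj] at hAN ⊢
    by_contra hlt
    have : 3 ≤ j := by
      by_contra hj3
      interval_cases j <;> simp at hlt
    exact hW (dvd_trans (pow_dvd_pow 2 this) hAN)
  have hmemT : ∀ a ∈ A, ((θ a : ↥(D.monomialSubgroup F)) : GL D.Idx F) ∈ D.diagonalSubgroup F :=
    fun a ha => Subgroup.mem_subgroupOf.mp ha
  have hcomm : ∀ a ∈ A, ∀ b ∈ A, a * b = b * a := by
    intro a ha b hb
    refine hθ (Subtype.ext ?_)
    rw [map_mul, map_mul, Subgroup.coe_mul, Subgroup.coe_mul]
    exact Φ.H_comm (hmemT a ha) (hmemT b hb)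
  have hsq : Nat.card {a : ↥A // a ^ 2 = 1} ≤ 4 := by
    refine le_trans (Nat.card_le_card_of_injective
      (fun a => (⟨⟨_, hmemT _ a.1.2⟩, ?_⟩ : {h : ↥(D.diagonalSubgroup F) // h ^ 2 = 1})) ?_)
      (le_trans Φ.card_torus_sq (by rw [hrank]; norm_num))
    · refine Subtype.ext ?_
      show ((θ (a.1 : ↥R) : ↥(D.monomialSubgroup F)) : GL D.Idx F) ^ 2 = 1
      rw [← SubgroupClass.coe_pow, ← map_pow, ← SubgroupClass.coe_pow, a.2]
      simp
    · intro a b e
      exact Subtype.ext (Subtype.ext (hθ (Subtype.ext (congrArg (fun z => ((z.1 : ↥(D.diagonalSubgroup F)) : GL D.Idx F)) e))))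
  let f8 : ↥R →* ↥a8Two := (Subgroup.subgroupOfEquivOfLe a8Two_le).toMonoidHom.comp f
  exact no_a8Two A hA hcomm hsq f8 ((Subgroup.subgroupOfEquivOfLe a8Two_le).surjective.comp hf)

end CfsgLib.Chev.Chev
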