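import Cfsg.Agent.Lib.AltSection.G2
import Cfsg.Agent.Lib.Chev.Twist.OrderD4
import Cfsg.Agent.Lib.Chev.Twist.TorusFusionF4

/-!
The groups ³D₄ have no section with a Frobenius group of order twenty outside characteristic five, and none with
the alternating group of degree eight in characteristic five.
-/

set_option autoImplicit false
set_option linter.unusedSectionVars false
set_option linter.dupNamespace false
set_option linter.style.haveILetI false
set_option maxRecDepth 100000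
set_option maxHeartbeats 1000000

namespace CfsgLib.Chev

open Cfsg.Lie Matrix Chev CfsgLib.AltSection

/-- Normalisers of ℓ-subgroups act through monomial elements, for any group with fusion in its torus. -/
theorem automiser_of_fusion {D : ChevalleyDatum} (Φ : Chev D) {F : Type*} [Field F]
    {G : Subgroup (GL D.Idx F)} [Finite G] {ℓ e : ℕ} [Fact ℓ.Prime]
    (hidx : ¬ ℓ ∣ ((D.diagonalSubgroup F ⊓ G).subgroupOf G).index)
    (hfus : ∀ g ∈ G, ∃ n, n ^ e ∈ D.diagonalSubgroup F ∧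
      ∀ x ∈ D.diagonalSubgroup F, g * x * g⁻¹ ∈ D.diagonalSubgroup F → g * x * g⁻¹ = n * x * n⁻¹)
    (Q : Subgroup ↥G) (hQ : IsPGroup ℓ Q) (g : ↥G)
    (hg : ∀ q ∈ Q, g * q * g⁻¹ ∈ Q) : ∀ q ∈ Q, g ^ e * q * (g ^ e)⁻¹ = q := by
  intro q hq
  obtain ⟨x, hx⟩ := Φ.exists_conj_mem _ hidx hQ
  have hin : ∀ p ∈ Q, ((x * p * x⁻¹ : ↥G) : GL D.Idx F) ∈ D.diagonalSubgroup F :=
    fun p hp => (Subgroup.mem_inf.mp (Subgroup.mem_subgroupOf.mp (hx p hp))).1
  obtain ⟨n, hne, hfus⟩ := hfus ((x * g * x⁻¹ : ↥G) : GL D.Idx F) (x * g * x⁻¹ : ↥G).2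
  have key : ∀ k : ℕ, g ^ k * q * (g ^ k)⁻¹ ∈ Q ∧
      ((x * (g ^ k * q * (g ^ k)⁻¹) * x⁻¹ : ↥G) : GL D.Idx F) =
        n ^ k * ((x * q * x⁻¹ : ↥G) : GL D.Idx F) * (n ^ k)⁻¹ := by
    intro k
    induction k with
    | zero => simp [hq]
    | succ k ih =>
      obtain ⟨ih1, ih2⟩ := ih
      have e : g ^ (k + 1) * q * (g ^ (k + 1))⁻¹ = g * (g ^ k * q * (g ^ k)⁻¹) * g⁻¹ := by
        rw [pow_succ']; group
      rw [e]
      refine ⟨hg _ ih1, ?_⟩
      set p := g ^ k * q * (g ^ k)⁻¹ with hp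
      have e1 : x * (g * p * g⁻¹) * x⁻¹ = (x * g * x⁻¹) * (x * p * x⁻¹) * (x * g * x⁻¹)⁻¹ := by group
      have h2 := hin _ (hg _ ih1)
      rw [e1, Subgroup.coe_mul, Subgroup.coe_mul, Subgroup.coe_inv] at h2 ⊢
      rw [hfus _ (hin p ih1) h2, ih2, pow_succ']
      group
  have hfin : (x * (g ^ e * q * (g ^ e)⁻¹) * x⁻¹ : ↥G) = x * q * x⁻¹ := by
    refine Subtype.ext ((key e).2.trans ?_)
    rw [Φ.H_comm hne (hin q hq), mul_inv_cancel_right]
  exact mul_left_cancel (mul_right_cancel hfin)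

namespace T3D4

variable {K : Type*} [Field K] [Fintype K] {q : ℕ} (hq : IsPrimePow q) (hK : Fintype.card K = q ^ 3)

/-- ³D₄(q) embeds in ³D₄(q⁴). -/
theorem exists_extension (p : ℕ) [Fact p.Prime] [CharP K p] (hK : Fintype.card K = q ^ 3) :
    ∃ (K' : Type) (_ : Field K') (_ : Fintype K') (ι : ↥(twistedD4 K q) →* ↥(twistedD4 K' (q ^ 4))),
      Function.Injective ι ∧ Fintype.card K' = (q ^ 4) ^ 3 := by
  let f := algebraMap K (FiniteField.Extension K p 4)
  letI := Fintype.ofFinite (FiniteField.Extension K p 4)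
  have hq3 : ∀ t : K, t ^ q ^ 3 = t := fun t => by rw [← hK]; exact FiniteField.pow_card t
  have hq4 : ∀ t : K, f t ^ q ^ 4 = f (t ^ q) := fun t => by
    rw [← map_pow, show q ^ 4 = q ^ 3 * q by ring, pow_mul, hq3]
  have hle : twistedD4 K q ≤
      (twistedD4 (FiniteField.Extension K p 4) (q ^ 4)).comap (Matrix.GeneralLinearGroup.map f) := by
    rw [twisted_eq, Subgroup.closure_le]
    rintro g ⟨w, hw, hg⟩
    show Matrix.GeneralLinearGroup.map f g ∈ twistedD4 (FiniteField.Extension K p 4) (q ^ 4)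
    rcases hw with ⟨t, ht, r, hr, rfl⟩ | ⟨t, rs, hrs, rfl⟩
    · have hlt : r < Cfsg.Lie.chevD4.nroots := by
        have : ∀ r ∈ [d4p2, d4m2], r < Cfsg.Lie.chevD4.nroots := by decide
        exact this r hr
      have hg' : g = CfsgLib.Chev.chevD4.toAlg.xg ⟨r, hlt⟩ t :=
        Units.ext (hg.trans (by rw [← Alg.x_val]; simp [ChevalleyDatum.wordMat]))
      rw [hg', map_root_xg]
      refine Subgroup.subset_closure ⟨_, Or.inl ⟨f t, ?_, r, hr, rfl⟩, ?_⟩
      · rw [hq4, ht]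
      · rw [← Alg.x_val]; simp [ChevalleyDatum.wordMat]
    · have hlt : ∀ rs ∈ [(d4p1, d4p3, d4p4), (d4m1, d4m3, d4m4)], rs.1 < Cfsg.Lie.chevD4.nroots ∧
          rs.2.1 < Cfsg.Lie.chevD4.nroots ∧ rs.2.2 < Cfsg.Lie.chevD4.nroots := by decide
      obtain ⟨hr, hs, hu⟩ := hlt rs hrs
      rw [word_three hr hs hu hg, Tw.X3, map_mul, map_mul, map_root_xg, map_root_xg, map_root_xg, ← hq4,
        show f (t ^ q ^ 2) = f t ^ (q ^ 4) ^ 2 by
          rw [pow_two (q ^ 4), pow_mul, hq4, hq4, ← pow_mul, ← pow_two]]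
      exact Subgroup.subset_closure ⟨_, Or.inr ⟨f t, rs, hrs, rfl⟩, by
        rw [Units.val_mul, Units.val_mul, ← Alg.x_val, ← Alg.x_val, ← Alg.x_val]
        simp [ChevalleyDatum.wordMat, Matrix.mul_assoc]⟩
  refine ⟨FiniteField.Extension K p 4, inferInstance, inferInstance,
    ((Matrix.GeneralLinearGroup.map f).comp (twistedD4 K q).subtype).codRestrict _ (fun x => hle x.2), ?_, ?_⟩
  · intro x y h
    have h' : ((x : GL Cfsg.Lie.chevD4.Idx K) : Matrix Cfsg.Lie.chevD4.Idx Cfsg.Lie.chevD4.Idx K).map f =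
        ((y : GL Cfsg.Lie.chevD4.Idx K) : Matrix Cfsg.Lie.chevD4.Idx Cfsg.Lie.chevD4.Idx K).map f :=
      congrArg Units.val (congrArg Subtype.val h)
    exact Subtype.ext (Units.ext (Matrix.map_injective f.injective h'))
  · rw [← Nat.card_eq_fintype_card, FiniteField.natCard_extension, Nat.card_eq_fintype_card, hK]
    ring

include hq hK in
theorem index_T {r : ℕ} (hr : q = r + 1) :
    ((Cfsg.Lie.chevD4.diagonalSubgroup K ⊓ twistedD4 K q).subgroupOf (twistedD4 K q)).index =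
      (r + 1) ^ 12 * (r + 2) * ((r + 1) ^ 5 + (r + 1) ^ 4 + (r + 1) ^ 3 + (r + 1) ^ 2 + (r + 1) + 1) *
        (((r + 1) ^ 2 - (r + 1) + 1) * ((r + 1) ^ 4 - (r + 1) ^ 2 + 1)) := by
  subst hr
  have h := ((Cfsg.Lie.chevD4.diagonalSubgroup K ⊓ twistedD4 K (r + 1)).subgroupOf (twistedD4 K (r + 1))).card_mul_index
  rw [Nat.card_congr (Subgroup.subgroupOfEquivOfLe inf_le_right).toEquiv, card_H hq hK, card_G hq hK,
    Nat.add_sub_cancel] at h
  have hr0 : 0 < r := by have := hq.one_lt; omega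
  have h2 : (r + 1) ≤ (r + 1) ^ 2 := Nat.le_self_pow (by norm_num) _
  have h4 : (r + 1) ^ 2 ≤ (r + 1) ^ 4 := Nat.pow_le_pow_right (by omega) (by norm_num)
  have h21 : 1 ≤ (r + 1) ^ 2 := Nat.one_le_pow _ _ (by omega)
  have h6 : 1 ≤ (r + 1) ^ 6 := Nat.one_le_pow _ _ (by omega)
  have hpos : 0 < r ^ 2 * ((r + 1) ^ 2 + (r + 1) + 1) := by positivity
  refine Nat.eq_of_mul_eq_mul_left hpos (h.trans ?_)
  zify [h2, h4, h21, h6]
  ring

include hq hK in
theorem five_not_dvd (h5 : q % 5 = 1) :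
    ¬ 5 ∣ ((Cfsg.Lie.chevD4.diagonalSubgroup K ⊓ twistedD4 K q).subgroupOf (twistedD4 K q)).index := by
  obtain ⟨r, hr⟩ : ∃ r, q = r + 1 := ⟨q - 1, by omega⟩
  rw [index_T hq hK hr, ← ZMod.natCast_eq_zero_iff]
  have h0 : (r : ZMod 5) = 0 := by
    rw [ZMod.natCast_eq_zero_iff]; omega
  have h2 : (r + 1) ≤ (r + 1) ^ 2 := Nat.le_self_pow (by norm_num) _
  have h4 : (r + 1) ^ 2 ≤ (r + 1) ^ 4 := Nat.pow_le_pow_right (by omega) (by norm_num)
  push_cast [Nat.cast_sub h2, Nat.cast_sub h4]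
  rw [h0]
  decide

include hq hK in
theorem exists_toWeyl : ∃ f : ↥(Cfsg.Lie.chevD4.monomialSubgroup K ⊓ twistedD4 K q) →* ↥CfsgLib.Chev.chevG2.WL,
    Function.Surjective f ∧ f.ker = (Cfsg.Lie.chevD4.diagonalSubgroup K ⊓ twistedD4 K q).subgroupOf
      (Cfsg.Lie.chevD4.monomialSubgroup K ⊓ twistedD4 K q) := by
  obtain ⟨φ, hφ, hker⟩ := coxeter hq hK
  obtain ⟨e, -⟩ := CfsgLib.Chev.coxIsoG2
  exact ⟨e.toMonoidHom.comp φ, e.surjective.comp hφ, by rw [← hker]; ext x; simp [MonoidHom.mem_ker]⟩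

include hq hK in
theorem no_frobenius_twenty {M : Type*} [Group M] (h5 : q % 5 = 1)
    (H : Subgroup ↥(twistedD4 K q)) (π : ↥H →* M) (hπ : Function.Surjective π)
    {c s : M} (hc : c ^ 5 = 1) (hc1 : c ≠ 1) (hs : s * c * s⁻¹ = c ^ 2) : False := by
  haveI := Fact.mk (show (5 : ℕ).Prime by norm_num)
  haveI : Finite ↥(twistedD4 K q) := Subgroup.instFiniteSubtypeMem _
  obtain ⟨f, -, hf⟩ := exists_toWeyl hq hK
  refine no_frobenius (ℓ := 5) (a := 2) (a' := 3) (e := 6) H π hπ hc hc1 hs (by norm_num) (by norm_num)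
    (automiser_of_fusion CfsgLib.Chev.chevD4 (five_not_dvd hq hK h5) fun g hg => ?_)
  obtain ⟨n, hnG, hnN, -, -, -, hfus⟩ := torus_fusion (gen hq hK) hg
  refine ⟨n, ?_, hfus⟩
  have h1 : (⟨n, hnN, hnG⟩ : ↥(Cfsg.Lie.chevD4.monomialSubgroup K ⊓ twistedD4 K q)) ^ 6 ∈ f.ker := by
    rw [MonoidHom.mem_ker, map_pow]
    exact Subtype.ext (G2Alt.pow_six (f _).2)
  rw [hf, Subgroup.mem_subgroupOf] at h1
  exact h1.1

include hq hK in
theorem card_torus_sq (hodd : Odd q) :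
    Nat.card {h : ↥(Cfsg.Lie.chevD4.diagonalSubgroup K ⊓ twistedD4 K q) // h ^ 2 = 1} ≤ 4 := by
  classical
  have hlift : ∀ h : {h : ↥(Cfsg.Lie.chevD4.diagonalSubgroup K ⊓ twistedD4 K q) // h ^ 2 = 1},
      ∃ d, (tw hq hK).dmap d = d ∧ Tw.tor (Φ := CfsgLib.Chev.chevD4) d = h.1.1 := by
    rintro ⟨⟨x, hx, hxf⟩, -⟩
    rw [eq_fix hq hK] at hxf
    rw [CfsgLib.Chev.chevD4.diagonalSubgroup_eq] at hx
    obtain ⟨d, rfl⟩ := hx
    obtain ⟨d', hd', e⟩ := (gen hq hK).lift d (by rw [← (tw hq hK).app_tor]; exact hxf.2)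
    exact ⟨d', hd', e⟩
  choose d hd hde using hlift
  have hd2 : ∀ h, d h ^ 2 = 1 := by
    intro h
    obtain ⟨-, huniq⟩ := (Nat.card_eq_one_iff_unique.mp (card_ker hq hK))
    haveI := (Nat.card_eq_one_iff_unique.mp (card_ker hq hK)).1
    have hm : (tw hq hK).dmap (d h ^ 2) = d h ^ 2 := by
      funext j
      have hj := congrFun (hd h) j
      rw [dmap_apply] at hj ⊢
      rw [Pi.pow_apply, Pi.pow_apply, ← pow_mul, mul_comm, pow_mul, hj]
    have ht : Tw.tor (Φ := CfsgLib.Chev.chevD4) (d h ^ 2) = 1 := by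
      rw [map_pow, hde]
      exact congrArg Subtype.val h.2
    have h1 : (tw hq hK).dmap 1 = 1 := by
      funext j
      rw [dmap_apply, Pi.one_apply, one_pow]; rfl
    exact congrArg Subtype.val (Subsingleton.elim
      (⟨_, hm, ht⟩ : {d : Fin Cfsg.Lie.chevD4.rank → Kˣ //
        (tw hq hK).dmap d = d ∧ Tw.tor (Φ := CfsgLib.Chev.chevD4) d = 1}) ⟨1, h1, map_one _⟩)
  let Φc : {h : ↥(Cfsg.Lie.chevD4.diagonalSubgroup K ⊓ twistedD4 K q) // h ^ 2 = 1} →
      ↥({1, -1} : Finset K) × ↥({1, -1} : Finset K) := fun h =>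
    (⟨(d h (ix 0) : K), by
      simpa using sq_eq_one_iff.mp (show (d h (ix 0) : K) ^ 2 = 1 by
        rw [← Units.val_pow_eq_pow_val, show d h (ix 0) ^ 2 = 1 from congrFun (hd2 h) (ix 0), Units.val_one])⟩,
     ⟨(d h (ix 1) : K), by
      simpa using sq_eq_one_iff.mp (show (d h (ix 1) : K) ^ 2 = 1 by
        rw [← Units.val_pow_eq_pow_val, show d h (ix 1) ^ 2 = 1 from congrFun (hd2 h) (ix 1), Units.val_one])⟩)
  have hinj : Function.Injective Φc := by
    intro a b e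
    have h0 : d a (ix 0) = d b (ix 0) := Units.ext (congrArg Subtype.val (congrArg Prod.fst e))
    have h1 : d a (ix 1) = d b (ix 1) := Units.ext (congrArg Subtype.val (congrArg Prod.snd e))
    obtain ⟨-, a2, a3⟩ := (stable_iff hq hK _).mp (hd a)
    obtain ⟨-, b2, b3⟩ := (stable_iff hq hK _).mp (hd b)
    have he : d a = d b := funext (forall_ix.mpr ⟨h0, h1, by rw [a2, b2, h0], by rw [a3, b3, h0]⟩)
    exact Subtype.ext (Subtype.ext (by rw [← hde a, ← hde b, he]))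
  refine le_trans (Nat.card_le_card_of_injective Φc hinj) ?_
  rw [Nat.card_prod, Nat.card_eq_fintype_card, Fintype.card_coe]
  exact le_trans (Nat.mul_le_mul Finset.card_le_two Finset.card_le_two) le_rfl

include hq hK in
theorem no_a8 (h4 : q % 4 = 1) (H : Subgroup ↥(twistedD4 K q))
    (π : ↥H →* ↥(alternatingGroup (Fin 8))) (hπ : Function.Surjective π) : False := by
  haveI := Fact.mk Nat.prime_two
  haveI : Finite ↥(twistedD4 K q) := Subgroup.instFiniteSubtypeMem _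
  obtain ⟨w, hws, hwk⟩ := exists_toWeyl hq hK
  let N := Cfsg.Lie.chevD4.monomialSubgroup K ⊓ twistedD4 K q
  have hW : Nat.card CfsgLib.Chev.chevG2.WL = 12 := cardWG2 _
  have hrel : (Cfsg.Lie.chevD4.diagonalSubgroup K ⊓ twistedD4 K q).relIndex N = 12 := by
    rw [Subgroup.relIndex, ← hwk, Subgroup.index_ker, MonoidHom.range_eq_top.mpr hws, Subgroup.card_top, hW]
  have hidx : ¬ 2 ∣ (N.subgroupOf (twistedD4 K q)).index := by
    obtain ⟨t, ht⟩ : ∃ t, q = 4 * t + 1 := ⟨q / 4, by omega⟩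
    have h := Subgroup.relIndex_mul_relIndex (Cfsg.Lie.chevD4.diagonalSubgroup K ⊓ twistedD4 K q) N (twistedD4 K q)
      (inf_le_inf_right _ H_le_N) inf_le_right
    rw [hrel] at h
    unfold Subgroup.relIndex at h
    rw [index_T hq hK ht] at h
    generalize (N.subgroupOf (twistedD4 K q)).index = i at h
    intro hi
    obtain ⟨j, rfl⟩ := hi
    have h2 : (4 * t + 1) ≤ (4 * t + 1) ^ 2 := Nat.le_self_pow (by norm_num) _
    have h4 : (4 * t + 1) ^ 2 ≤ (4 * t + 1) ^ 4 := Nat.pow_le_pow_right (by omega) (by norm_num)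
    have hc := congrArg (fun n : ℕ => (n : ZMod 8)) h
    push_cast [Nat.cast_sub h2, Nat.cast_sub h4] at hc
    rw [show (12 : ZMod 8) * (2 * (j : ZMod 8)) = 0 by
      rw [← mul_assoc, show (12 : ZMod 8) * 2 = 0 by decide, zero_mul]] at hc
    generalize (t : ZMod 8) = x at hc
    revert hc
    revert x
    decide
  have hP : IsPGroup 2 ↥(a8Two.subgroupOf (alternatingGroup (Fin 8))) :=
    IsPGroup.of_card (n := 6) (by
      rw [Nat.card_congr (Subgroup.subgroupOfEquivOfLe a8Two_le).toEquiv, card_a8Two]; norm_num)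
  obtain ⟨R, f, hR, hf⟩ := exists_lift_pgroup H π hπ _ hP
  obtain ⟨x, hx⟩ := CfsgLib.Chev.chevD4.exists_conj_mem _ hidx hR
  let θ : ↥R →* ↥N :=
    MonoidHom.codRestrict ((twistedD4 K q).subtype.comp ((MulAut.conj x).toMonoidHom.comp R.subtype)) _
      (fun r => Subgroup.mem_subgroupOf.mp (hx r r.2))
  have hθ : Function.Injective θ := fun a b e =>
    Subtype.ext ((MulAut.conj x).injective (Subtype.ext (congrArg (fun z : ↥N => (z : GL Cfsg.Lie.chevD4.Idx K)) e)))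
  let A : Subgroup ↥R := (w.comp θ).ker
  have hA : A.index ≤ 4 := by
    obtain ⟨k, hk⟩ := IsPGroup.iff_card.mp hR
    obtain ⟨j, -, hj⟩ := (Nat.dvd_prime_pow Nat.prime_two).mp (hk ▸ A.index_dvd_card)
    have hd : A.index ∣ 12 := by
      rw [← hW]
      show (w.comp θ).ker.index ∣ _
      rw [Subgroup.index_ker]
      exact Subgroup.card_subgroup_dvd_card _
    rw [hj] at hd ⊢
    by_contra hlt
    have : 3 ≤ j := by
      by_contra hj3
      interval_cases j <;> simp at hlt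
    have h8 := dvd_trans (pow_dvd_pow 2 this) hd
    norm_num at h8
  have hmemT : ∀ a ∈ A, ((θ a : ↥N) : GL Cfsg.Lie.chevD4.Idx K) ∈
      Cfsg.Lie.chevD4.diagonalSubgroup K ⊓ twistedD4 K q := by
    intro a ha
    have h1 : θ a ∈ w.ker := ha
    rw [hwk] at h1
    exact Subgroup.mem_subgroupOf.mp h1
  have hcomm : ∀ a ∈ A, ∀ b ∈ A, a * b = b * a := by
    intro a ha b hb
    refine hθ (Subtype.ext ?_)
    rw [map_mul, map_mul, Subgroup.coe_mul, Subgroup.coe_mul]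
    exact CfsgLib.Chev.chevD4.H_comm (hmemT a ha).1 (hmemT b hb).1
  have hsq : Nat.card {a : ↥A // a ^ 2 = 1} ≤ 4 := by
    refine le_trans (Nat.card_le_card_of_injective
      (fun a => (⟨⟨_, hmemT _ a.1.2⟩, ?_⟩ :
        {h : ↥(Cfsg.Lie.chevD4.diagonalSubgroup K ⊓ twistedD4 K q) // h ^ 2 = 1})) ?_)
      (card_torus_sq hq hK (Nat.odd_iff.mpr (by omega)))
    · refine Subtype.ext ?_
      show ((θ (a.1 : ↥R) : ↥N) : GL Cfsg.Lie.chevD4.Idx K) ^ 2 = 1
      rw [← SubgroupClass.coe_pow, ← map_pow, ← SubgroupClass.coe_pow, a.2]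
      simp
    · intro a b e
      exact Subtype.ext (Subtype.ext (hθ (Subtype.ext (congrArg (fun z =>
        ((z.1 : ↥(Cfsg.Lie.chevD4.diagonalSubgroup K ⊓ twistedD4 K q)) : GL Cfsg.Lie.chevD4.Idx K)) e))))
  exact no_a8Two A hA hcomm hsq ((Subgroup.subgroupOfEquivOfLe a8Two_le).toMonoidHom.comp f)
    ((Subgroup.subgroupOfEquivOfLe a8Two_le).surjective.comp hf)

end T3D4

end CfsgLib.Chev
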