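import Cfsg.Agent.Lib.AltSection.F4WData
import Cfsg.Agent.Lib.Chev.Inst
import Cfsg.Agent.Lib.Chev.WeylGroup

/-!
In the Weyl group of type F₄ an element w has w^4, w^6 or w^8 trivial, or w^6 the negation of roots.
-/

set_option autoImplicit false
set_option maxRecDepth 100000

namespace CfsgLib.AltSection.F4W

open Cfsg.Lie

/-- A digit of a packed permutation. -/
def dig (F s : Nat) : Nat := (F >>> (6 * s)) % 64

/-- All numbers below a bound satisfy a test. -/
def allN : Nat → (Nat → Bool) → Bool
  | 0, _ => true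
  | n + 1, p => p n && allN n p

theorem allN_spec {p : Nat → Bool} : ∀ {n : Nat}, allN n p = true → ∀ i < n, p i = true
  | 0, _, i, hi => by omega
  | n + 1, h, i, hi => by
    rw [allN, Bool.and_eq_true] at h
    rcases Nat.lt_succ_iff_lt_or_eq.mp hi with h' | h'
    · exact allN_spec h.2 i h'
    · exact h' ▸ h.1

/-- The element with a given index. -/
def el (i : Nat) : Nat := elT.get i

/-- The index of a product by a fundamental reflection. -/
def nx (i j : Nat) : Nat := (nxT.get i >>> (11 * j)) % 2048

/-- The product by a fundamental reflection is as tabulated. -/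
def stepOK (i : Nat) : Bool :=
  allN 4 fun j => Nat.blt (nx i j) 1152 &&
    allN 48 fun s => Nat.beq (dig (gens.getD j 0) (dig (el i) s)) (dig (el (nx i j)) s)

/-- Iterate a packed permutation. -/
def it (F : Nat) : Nat → Nat → Nat
  | 0, s => s
  | k + 1, s => dig F (it F k s)

/-- The test on powers. -/
def powOK (i : Nat) : Bool :=
  allN 48 (fun s => Nat.beq (it (el i) 4 s) s) || allN 48 (fun s => Nat.beq (it (el i) 6 s) s) ||
    allN 48 (fun s => Nat.beq (it (el i) 8 s) s) || allN 48 (fun s => Nat.beq (it (el i) 6 s) (47 - s))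

theorem step0 : allN 288 (fun i => stepOK i) = true := by decide +kernel
theorem step1 : allN 288 (fun i => stepOK (288 + i)) = true := by decide +kernel
theorem step2 : allN 288 (fun i => stepOK (576 + i)) = true := by decide +kernel
theorem step3 : allN 288 (fun i => stepOK (864 + i)) = true := by decide +kernel
theorem pow0 : allN 288 (fun i => powOK i) = true := by decide +kernel
theorem pow1 : allN 288 (fun i => powOK (288 + i)) = true := by decide +kernel
theorem pow2 : allN 288 (fun i => powOK (576 + i)) = true := by decide +kernel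
theorem pow3 : allN 288 (fun i => powOK (864 + i)) = true := by decide +kernel

theorem split_range {P : Nat → Bool} (h0 : allN 288 (fun i => P i) = true)
    (h1 : allN 288 (fun i => P (288 + i)) = true) (h2 : allN 288 (fun i => P (576 + i)) = true)
    (h3 : allN 288 (fun i => P (864 + i)) = true) {i : Nat} (hi : i < 1152) : P i = true := by
  rcases Nat.lt_or_ge i 288 with h | h
  · exact allN_spec h0 i h
  rcases Nat.lt_or_ge i 576 with h' | h'
  · have := allN_spec h1 (i - 288) (by omega); rwa [Nat.add_sub_cancel' h] at this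
  rcases Nat.lt_or_ge i 864 with h'' | h''
  · have := allN_spec h2 (i - 576) (by omega); rwa [Nat.add_sub_cancel' h'] at this
  · have := allN_spec h3 (i - 864) (by omega); rwa [Nat.add_sub_cancel' h''] at this

theorem gens_spec : ∀ j : Fin Cfsg.Lie.chevF4.rank, ∀ s : Fin Cfsg.Lie.chevF4.nroots,
    dig (gens.getD j.val 0) s.val = (CfsgLib.Chev.chevF4.refl j s).val := by decide +kernel

theorem el_zero : ∀ s : Fin Cfsg.Lie.chevF4.nroots, dig (el 0) s.val = s.val := by decide +kernel

/-- A packed permutation represents a permutation of the roots. -/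
def Rep (F : Nat) (π : Equiv.Perm (Fin Cfsg.Lie.chevF4.nroots)) : Prop := ∀ s, dig F s.val = (π s).val

theorem exists_index {π : Equiv.Perm (Fin Cfsg.Lie.chevF4.nroots)} (hπ : π ∈ CfsgLib.Chev.chevF4.WL) :
    ∃ i < 1152, Rep (el i) π := by
  have hstep : ∀ (j : Fin Cfsg.Lie.chevF4.rank) (σ : Equiv.Perm (Fin Cfsg.Lie.chevF4.nroots)),
      (∃ i < 1152, Rep (el i) σ) → ∃ i < 1152, Rep (el i) (CfsgLib.Chev.chevF4.reflPerm j * σ) := by
    rintro j σ ⟨i, hi, hr⟩
    have h := allN_spec (split_range (P := stepOK) step0 step1 step2 step3 hi) j.val j.2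
    rw [Bool.and_eq_true] at h
    refine ⟨nx i j.val, Nat.le_of_ble_eq_true h.1, fun s => ?_⟩
    rw [← Nat.eq_of_beq_eq_true (allN_spec h.2 s.val s.2), hr s, gens_spec j (σ s)]
    rfl
  unfold CfsgLib.Chev.Chev.WL CfsgLib.Chev.Chev.WK CfsgLib.Chev.Chev.simpleRefl at hπ
  induction hπ using Subgroup.closure_induction_left with
  | one => exact ⟨0, by omega, el_zero⟩
  | mul_left g hg y _ ih =>
    obtain ⟨j, -, rfl⟩ := hg
    exact hstep j y ih
  | inv_mul_cancel g hg y _ ih =>
    obtain ⟨j, -, rfl⟩ := hg
    rw [CfsgLib.Chev.chevF4.reflPerm_inv' j]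
    exact hstep j y ih

theorem powers {π : Equiv.Perm (Fin Cfsg.Lie.chevF4.nroots)} (hπ : π ∈ CfsgLib.Chev.chevF4.WL) :
    π ^ 4 = 1 ∨ π ^ 6 = 1 ∨ π ^ 8 = 1 ∨ ∀ s, (π ^ 6) s = s.rev := by
  obtain ⟨i, hi, hr⟩ := exists_index hπ
  have hit : ∀ k s, it (el i) k s.val = ((π ^ k) s).val := by
    intro k
    induction k with
    | zero => intro s; rfl
    | succ k ih => intro s; rw [it, ih, hr, pow_succ']; rfl
  have h := split_range (P := powOK) pow0 pow1 pow2 pow3 hi
  simp only [powOK, Bool.or_eq_true] at h
  have conv : ∀ k, allN 48 (fun s => Nat.beq (it (el i) k s) s) = true → π ^ k = 1 := fun k h =>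
    Equiv.ext fun s => Fin.ext ((hit k s).symm.trans (Nat.eq_of_beq_eq_true (allN_spec h s.val s.2)))
  rcases h with ((h | h) | h) | h
  · exact .inl (conv _ h)
  · exact .inr (.inl (conv _ h))
  · exact .inr (.inr (.inl (conv _ h)))
  · refine .inr (.inr (.inr fun s => Fin.ext ?_))
    rw [← hit 6 s, Nat.eq_of_beq_eq_true (allN_spec h s.val s.2), Fin.val_rev]
    show 47 - s.val = 48 - (s.val + 1)
    omega

end CfsgLib.AltSection.F4W
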