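import Cfsg.Agent.Lib.AltSection.TwoPrimes
import Cfsg.Agent.Lib.AltSection.F4W
import Cfsg.Agent.Lib.Chev.OrderF4

/-!
F₄ has no section with a Frobenius group of order 55 outside characteristic eleven, and none with a Frobenius
group of order 35·12 in characteristic eleven.
-/

set_option autoImplicit false
set_option linter.unusedSectionVars false
set_option linter.style.haveILetI false
set_option maxRecDepth 100000

namespace CfsgLib.Chev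

open Cfsg.Lie Matrix CfsgLib.AltSection

variable {D : ChevalleyDatum} (Φ : Chev D) {F : Type*} [Field F]

/-- A monomial element negating all roots inverts the torus. -/
theorem Chev.inv_torus_of_rev {n x : GL D.Idx F} {π : Equiv.Perm (Fin D.nroots)} (hm : Φ.Mono n π)
    (hπ : ∀ s, π s = s.rev) (hn : n ∈ D.monomialSubgroup F) (hx : x ∈ D.diagonalSubgroup F) :
    n * x * n⁻¹ = x⁻¹ := by
  have ht : n * x * n⁻¹ ∈ D.diagonalSubgroup F :=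
    (Subgroup.mem_normalizer_iff.mp (Φ.N_le_normalizer_H hn) x).mp hx
  obtain ⟨c, rfl⟩ := Φ.exists_torus_of_mem_H hx
  obtain ⟨d, hd⟩ := Φ.exists_torus_of_mem_H ht
  rw [hd]
  have key : ∀ s, Φ.toSys.chi d s.rev = Φ.toSys.chi c s := by
    intro s
    obtain ⟨a, ha, a1, -⟩ := hm.1 s
    have e1 : n * (Φ.toAlg.torus c * Φ.toAlg.xg s 1 * (Φ.toAlg.torus c)⁻¹) * n⁻¹ =
        Φ.toAlg.xg (π s) (a * (Φ.toSys.chi c s : F)) := by
      rw [Φ.toAlg.torus_xg, mul_inv_cancel_right, mul_one, a1]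
    have e2 : n * (Φ.toAlg.torus c * Φ.toAlg.xg s 1 * (Φ.toAlg.torus c)⁻¹) * n⁻¹ =
        Φ.toAlg.torus d * Φ.toAlg.xg (π s) a * (Φ.toAlg.torus d)⁻¹ := by
      rw [← hd, show Φ.toAlg.xg (π s) a = n * Φ.toAlg.xg s 1 * n⁻¹ by rw [a1, mul_one]]
      group
    rw [e1, Φ.toAlg.torus_xg, mul_inv_cancel_right] at e2
    have h := Φ.toAlg.xg_injective _ e2
    rw [hπ s] at h
    exact Units.ext (mul_right_cancel₀ ha (by rw [← h, mul_comm]))
  rw [← map_inv]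
  congr 1
  funext i
  have h := key (Φ.p i)
  rw [Φ.toSys.chi_neg, Φ.toSys.chi_simple, Φ.toSys.chi_simple, inv_eq_iff_eq_inv] at h
  exact h

namespace F4Alt

section
variable [Finite F]

theorem card_H : Nat.card (Cfsg.Lie.chevF4.diagonalSubgroup F) = (Nat.card F - 1) ^ 4 := by
  have h := cardHF4 CfsgLib.Chev.chevF4 F
  simpa [Fin.prod_univ_four] using h

theorem card_G : Nat.card (Cfsg.Lie.chevF4.group F) =
    Nat.card F ^ 24 * ((Nat.card F ^ 2 - 1) * ((Nat.card F ^ 6 - 1) * ((Nat.card F ^ 8 - 1) * (Nat.card F ^ 12 - 1)))) := by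
  have h := CfsgLib.Chev.chevF4.order_formula (F := F) (g := 1) (degs := [2, 6, 8, 12]) rfl
    (by rw [one_mul]; exact card_H) (sumWF4 CfsgLib.Chev.chevF4)
  rw [one_mul, show Cfsg.Lie.chevF4.nroots / 2 = 24 from rfl] at h
  rw [h]
  simp

theorem index_T {r : ℕ} (hq : Nat.card F = r + 1) :
    ((Cfsg.Lie.chevF4.diagonalSubgroup F).subgroupOf (Cfsg.Lie.chevF4.group F)).index =
      (r + 1) ^ 24 * (((r + 1) + 1) * (((r + 1) ^ 5 + (r + 1) ^ 4 + (r + 1) ^ 3 + (r + 1) ^ 2 + (r + 1) + 1) *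
        (((r + 1) ^ 4 + 1) * ((r + 1) ^ 2 + 1) * ((r + 1) + 1) *
          (((r + 1) ^ 6 + 1) * ((r + 1) ^ 5 + (r + 1) ^ 4 + (r + 1) ^ 3 + (r + 1) ^ 2 + (r + 1) + 1))))) := by
  have hle : Cfsg.Lie.chevF4.diagonalSubgroup F ≤ Cfsg.Lie.chevF4.group F :=
    Chev.H_le_N.trans CfsgLib.Chev.chevF4.N_le_group
  have h := ((Cfsg.Lie.chevF4.diagonalSubgroup F).subgroupOf (Cfsg.Lie.chevF4.group F)).card_mul_index
  rw [Nat.card_congr (Subgroup.subgroupOfEquivOfLe hle).toEquiv, card_H, card_G, hq, Nat.add_sub_cancel] at h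
  have e2 : (r + 1) ^ 2 - 1 = r * ((r + 1) + 1) := Nat.sub_eq_of_eq_add (by ring)
  have e6 : (r + 1) ^ 6 - 1 = r * ((r + 1) ^ 5 + (r + 1) ^ 4 + (r + 1) ^ 3 + (r + 1) ^ 2 + (r + 1) + 1) :=
    Nat.sub_eq_of_eq_add (by ring)
  have e8 : (r + 1) ^ 8 - 1 = r * (((r + 1) ^ 4 + 1) * ((r + 1) ^ 2 + 1) * ((r + 1) + 1)) :=
    Nat.sub_eq_of_eq_add (by ring)
  have e12 : (r + 1) ^ 12 - 1 =
      r * (((r + 1) ^ 6 + 1) * ((r + 1) ^ 5 + (r + 1) ^ 4 + (r + 1) ^ 3 + (r + 1) ^ 2 + (r + 1) + 1)) :=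
    Nat.sub_eq_of_eq_add (by ring)
  rw [e2, e6, e8, e12] at h
  have hr : 0 < r := by
    have := (Finite.one_lt_card : 1 < Nat.card F)
    omega
  have hr4 : 0 < r ^ 4 := by positivity
  refine Nat.eq_of_mul_eq_mul_left hr4 (h.trans ?_)
  ring

theorem not_dvd_index {ℓ : ℕ} [Fact ℓ.Prime] (hq : Nat.card F % ℓ = 1) (hℓ : ¬ ℓ ∣ 1152) :
    ¬ ℓ ∣ ((Cfsg.Lie.chevF4.diagonalSubgroup F).subgroupOf (Cfsg.Lie.chevF4.group F)).index := by
  obtain ⟨r, hr⟩ : ∃ r, Nat.card F = r + 1 := ⟨Nat.card F - 1, by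
    have := (Finite.one_lt_card : 1 < Nat.card F)
    omega⟩
  have h1 : ((r + 1 : ℕ) : ZMod ℓ) = 1 := by
    rw [← hr, ← ZMod.natCast_mod, hq, Nat.cast_one]
  rw [index_T hr, ← ZMod.natCast_eq_zero_iff]
  intro h0
  push_cast at h0 h1
  rw [h1] at h0
  apply hℓ
  rw [← ZMod.natCast_eq_zero_iff]
  rw [← h0]
  push_cast
  ring

theorem pow_card_W {π : Equiv.Perm (Fin Cfsg.Lie.chevF4.nroots)} (hπ : π ∈ CfsgLib.Chev.chevF4.WL) :
    π ^ 1152 = 1 := by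
  haveI : Finite CfsgLib.Chev.chevF4.WL := Subgroup.instFiniteSubtypeMem _
  have h := congrArg Subtype.val (pow_card_eq_one' (G := ↥CfsgLib.Chev.chevF4.WL) (x := ⟨π, hπ⟩))
  rw [cardWF4] at h
  exact h

theorem no_frobenius_fiftyfive {M : Type*} [Group M] (hq : Nat.card F % 11 = 1)
    (H : Subgroup ↥(Cfsg.Lie.chevF4.group F)) (π : ↥H →* M) (hπ : Function.Surjective π)
    {c s : M} (hc : c ^ 11 = 1) (hc1 : c ≠ 1) (hs : s * c * s⁻¹ = c ^ 3) : False := by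
  haveI := Fact.mk (show (11 : ℕ).Prime by norm_num)
  exact no_frobenius (ℓ := 11) (a := 3) (a' := 4) (e := 1152) H π hπ hc hc1 hs (by norm_num) (by decide +kernel)
    (CfsgLib.Chev.chevF4.automiser_bound (not_dvd_index hq (by norm_num)) fun π hπ => pow_card_W hπ)

theorem no_frobenius_thirtyfive {M : Type*} [Group M] (hq7 : Nat.card F % 7 = 1) (hq5 : Nat.card F % 5 = 1)
    (H : Subgroup ↥(Cfsg.Lie.chevF4.group F)) (π : ↥H →* M) (hπ : Function.Surjective π)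
    {c₁ c₂ s : M} (h1 : c₁ ^ 7 = 1) (h1' : c₁ ≠ 1) (h2 : c₂ ^ 5 = 1) (h2' : c₂ ≠ 1)
    (hcc : c₁ * c₂ = c₂ * c₁) (hs1 : s * c₁ * s⁻¹ = c₁ ^ 3) (hs2 : s * c₂ * s⁻¹ = c₂ ^ 2) : False := by
  haveI := Fact.mk (show (7 : ℕ).Prime by norm_num)
  haveI := Fact.mk (show (5 : ℕ).Prime by norm_num)
  obtain ⟨P, S, q₁, q₂, g, hP, hS, hSP, hq₁, hq₂, hgP, hgS, e₁, e₂, eg⟩ :=
    exists_lift_pair H π hπ h1 h2 hcc hs1 hs2
  have hT7 := not_dvd_index (F := F) hq7 (ℓ := 7) (by norm_num)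
  have hT5 := not_dvd_index (F := F) hq5 (ℓ := 5) (by norm_num)
  have hcent : ∀ x ∈ S, ∀ p ∈ P, x * p = p * x := by
    intro x hx p hp
    have hfix : ∀ y ∈ S, y ^ 1152 * p * (y ^ 1152)⁻¹ = p := fun y hy =>
      CfsgLib.Chev.chevF4.automiser_bound hT7 (fun π hπ => pow_card_W hπ) P hP y (fun q hq => hSP y hy q hq) p hp
    obtain ⟨k, hk⟩ := hS (⟨x, hx⟩ : ↥S)
    have hk' : x ^ 5 ^ k = 1 := congrArg Subtype.val hk
    obtain ⟨j, -, hj⟩ := Nat.exists_mul_mod_eq_one_of_coprime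
      (Nat.Coprime.pow_right (k + 1) (show Nat.Coprime 1152 5 by norm_num)) (Nat.one_lt_pow (Nat.succ_ne_zero k) (by norm_num))
    have hx1 : x = (x ^ j) ^ 1152 := by
      rw [← pow_mul, mul_comm, ← Nat.mod_add_div (1152 * j) (5 ^ (k + 1)), hj, pow_add, pow_one, pow_mul,
        pow_succ, pow_mul, hk', one_pow, one_pow, mul_one]
    have h := hfix (x ^ j) (pow_mem hx j)
    rw [← hx1] at h
    exact mul_inv_eq_iff_eq_mul.mp h
  obtain ⟨x, hx⟩ := CfsgLib.Chev.chevF4.exists_conj_mem _ hT7 hP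
  let T := (Cfsg.Lie.chevF4.diagonalSubgroup F).subgroupOf (Cfsg.Lie.chevF4.group F)
  let P' := P.map (MulAut.conj x).toMonoidHom
  let C := Subgroup.centralizer (P' : Set ↥(Cfsg.Lie.chevF4.group F))
  have hTC : T ≤ C := by
    intro t ht
    rw [Subgroup.mem_centralizer_iff]
    rintro _ ⟨p, hp, rfl⟩
    exact Subtype.ext (CfsgLib.Chev.chevF4.H_comm (Subgroup.mem_subgroupOf.mp (hx p hp)) (Subgroup.mem_subgroupOf.mp ht))
  have hidx : ¬ 5 ∣ (T.subgroupOf C).index := by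
    intro h
    refine hT5 ?_
    show 5 ∣ T.index
    rw [← Subgroup.relIndex_mul_index hTC]
    exact dvd_mul_of_dvd_left h _
  have hSC : S.map (MulAut.conj x).toMonoidHom ≤ C := by
    rintro _ ⟨y, hy, rfl⟩
    rw [Subgroup.mem_centralizer_iff]
    rintro _ ⟨p, hp, rfl⟩
    rw [← map_mul, ← map_mul, hcent y hy p hp]
  obtain ⟨y, hy⟩ := CfsgLib.Chev.chevF4.exists_conj_mem (T.subgroupOf C) hidx
    (Q := (S.map (MulAut.conj x).toMonoidHom).subgroupOf C)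
    ((hS.map _).of_equiv (Subgroup.subgroupOfEquivOfLe hSC).symm)
  set z : ↥(Cfsg.Lie.chevF4.group F) := (y : ↥(Cfsg.Lie.chevF4.group F)) * x with hz
  have hzP : ∀ p ∈ P, z * p * z⁻¹ ∈ T := by
    intro p hp
    have hc := Subgroup.mem_centralizer_iff.mp y.2 (MulAut.conj x p) (Subgroup.mem_map_of_mem _ hp)
    have e : z * p * z⁻¹ = (y : ↥(Cfsg.Lie.chevF4.group F)) * MulAut.conj x p * (y : ↥(Cfsg.Lie.chevF4.group F))⁻¹ := by
      rw [hz, MulAut.conj_apply]; group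
    rw [e, ← hc, mul_inv_cancel_right]
    exact hx p hp
  have hzS : ∀ p ∈ S, z * p * z⁻¹ ∈ T := by
    intro p hp
    have hm : MulAut.conj x p ∈ S.map (MulAut.conj x).toMonoidHom := Subgroup.mem_map_of_mem _ hp
    have h := Subgroup.mem_subgroupOf.mp (hy ⟨_, hSC hm⟩ (Subgroup.mem_subgroupOf.mpr hm))
    have e : z * p * z⁻¹ = (y : ↥(Cfsg.Lie.chevF4.group F)) * MulAut.conj x p * (y : ↥(Cfsg.Lie.chevF4.group F))⁻¹ := by
      rw [hz, MulAut.conj_apply]; group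
    rw [e]
    exact h
  set gg : ↥(Cfsg.Lie.chevF4.group F) := (g : ↥(Cfsg.Lie.chevF4.group F))
  obtain ⟨n, hnN, w, hw, hnm, hfus⟩ := CfsgLib.Chev.chevF4.torus_fusion
    (g := ((z * gg * z⁻¹ : ↥(Cfsg.Lie.chevF4.group F)) : GL Cfsg.Lie.chevF4.Idx F)) (z * gg * z⁻¹).2
  have act : ∀ Q : Subgroup ↥(Cfsg.Lie.chevF4.group F), (∀ p ∈ Q, gg * p * gg⁻¹ ∈ Q) →
      (∀ p ∈ Q, z * p * z⁻¹ ∈ T) → ∀ q ∈ Q, ∀ k : ℕ, gg ^ k * q * (gg ^ k)⁻¹ ∈ Q ∧
      ((z * (gg ^ k * q * (gg ^ k)⁻¹) * z⁻¹ : ↥(Cfsg.Lie.chevF4.group F)) : GL Cfsg.Lie.chevF4.Idx F) =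
        n ^ k * ((z * q * z⁻¹ : ↥(Cfsg.Lie.chevF4.group F)) : GL Cfsg.Lie.chevF4.Idx F) * (n ^ k)⁻¹ := by
    intro Q hQg hQT q hq k
    induction k with
    | zero => simp [hq]
    | succ k ih =>
      obtain ⟨ih1, ih2⟩ := ih
      have e : gg ^ (k + 1) * q * (gg ^ (k + 1))⁻¹ = gg * (gg ^ k * q * (gg ^ k)⁻¹) * gg⁻¹ := by
        rw [pow_succ']; group
      rw [e]
      refine ⟨hQg _ ih1, ?_⟩
      set p := gg ^ k * q * (gg ^ k)⁻¹ with hp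
      have e1 : z * (gg * p * gg⁻¹) * z⁻¹ = (z * gg * z⁻¹) * (z * p * z⁻¹) * (z * gg * z⁻¹)⁻¹ := by group
      have h2 := Subgroup.mem_subgroupOf.mp (hQT _ (hQg _ ih1))
      rw [e1, Subgroup.coe_mul, Subgroup.coe_mul, Subgroup.coe_inv] at h2 ⊢
      rw [hfus _ (Subgroup.mem_subgroupOf.mp (hQT p ih1)) h2, ih2, pow_succ']
      group
  have hp : ∀ k, CfsgLib.Chev.chevF4.Mono (n ^ k) (w ^ k) := by
    intro k
    induction k with
    | zero => rw [pow_zero, pow_zero]; exact Chev.Mono.one _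
    | succ k ih => rw [pow_succ, pow_succ]; exact Chev.Mono.mul _ ih hnm
  have fixd : ∀ k, w ^ k = 1 → ∀ Q : Subgroup ↥(Cfsg.Lie.chevF4.group F), (∀ p ∈ Q, gg * p * gg⁻¹ ∈ Q) →
      (∀ p ∈ Q, z * p * z⁻¹ ∈ T) → ∀ q ∈ Q, gg ^ k * q * (gg ^ k)⁻¹ = q := by
    intro k hk Q hQg hQT q hq
    have hH : n ^ k ∈ Cfsg.Lie.chevF4.diagonalSubgroup F :=
      (CfsgLib.Chev.chevF4.mem_H_iff_mono_one (pow_mem hnN k)).mpr (hk ▸ hp k)
    refine mul_left_cancel (mul_right_cancel (Subtype.ext ((act Q hQg hQT q hq k).2.trans ?_) :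
      z * (gg ^ k * q * (gg ^ k)⁻¹) * z⁻¹ = z * q * z⁻¹))
    rw [CfsgLib.Chev.chevF4.H_comm hH (Subgroup.mem_subgroupOf.mp (hQT q hq)), mul_inv_cancel_right]
  have red : ∀ (q : ↥H) (c : M) (a k : ℕ), π q = c → s * c * s⁻¹ = c ^ a →
      ∀ v : ↥H, g ^ k * q * (g ^ k)⁻¹ = v → π v = c ^ a ^ k := by
    intro q c a k hq hs v hv
    rw [← hv, map_mul, map_mul, map_inv, map_pow, hq, eg, pow_conj_pow hs]
  have coe : ∀ (q : ↥H) (k : ℕ), ((g ^ k * q * (g ^ k)⁻¹ : ↥H) : ↥(Cfsg.Lie.chevF4.group F)) =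
      gg ^ k * (q : ↥(Cfsg.Lie.chevF4.group F)) * (gg ^ k)⁻¹ := fun q k => by simp [gg]
  have ne1 : ∀ {c : M} {ℓ : ℕ} [Fact ℓ.Prime], c ^ ℓ = 1 → c ≠ 1 → ∀ m, c ^ m = c → m % ℓ = 1 := by
    intro c ℓ _ hc hc1 m hm
    conv at hm => rhs; rw [← pow_one c]
    rw [pow_eq_pow_iff_modEq, orderOf_eq_prime hc hc1] at hm
    rw [hm, Nat.one_mod_eq_one.mpr (Fact.out : ℓ.Prime).ne_one]
  rcases F4W.powers hw with hk | hk | hk | hk
  · have h := fixd 4 hk P hgP hzP _ hq₁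
    rw [← coe] at h
    have := ne1 h1 h1' _ ((red q₁ c₁ 3 4 e₁ hs1 q₁ (Subtype.ext h)).symm.trans e₁)
    norm_num at this
  · have h := fixd 6 hk S hgS hzS _ hq₂
    rw [← coe] at h
    have := ne1 h2 h2' _ ((red q₂ c₂ 2 6 e₂ hs2 q₂ (Subtype.ext h)).symm.trans e₂)
    norm_num at this
  · have h := fixd 8 hk P hgP hzP _ hq₁
    rw [← coe] at h
    have := ne1 h1 h1' _ ((red q₁ c₁ 3 8 e₁ hs1 q₁ (Subtype.ext h)).symm.trans e₁)
    norm_num at this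
  · have h : gg ^ 6 * (q₁ : ↥(Cfsg.Lie.chevF4.group F)) * (gg ^ 6)⁻¹ = (q₁ : ↥(Cfsg.Lie.chevF4.group F))⁻¹ := by
      refine mul_left_cancel (mul_right_cancel (Subtype.ext ((act P hgP hzP _ hq₁ 6).2.trans ?_) :
        z * (gg ^ 6 * (q₁ : ↥(Cfsg.Lie.chevF4.group F)) * (gg ^ 6)⁻¹) * z⁻¹ =
          z * (q₁ : ↥(Cfsg.Lie.chevF4.group F))⁻¹ * z⁻¹))
      rw [CfsgLib.Chev.chevF4.inv_torus_of_rev (hp 6) hk (pow_mem hnN 6)
        (Subgroup.mem_subgroupOf.mp (hzP _ hq₁)), ← Subgroup.coe_inv]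
      congr 1
      group
    rw [← coe, ← Subgroup.coe_inv] at h
    have h' := red q₁ c₁ 3 6 e₁ hs1 q₁⁻¹ (Subtype.ext h)
    rw [map_inv, e₁, inv_eq_iff_mul_eq_one, ← pow_succ', ← orderOf_dvd_iff_pow_eq_one,
      orderOf_eq_prime h1 h1'] at h'
    norm_num at h'

end

end F4Alt

end CfsgLib.Chev
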