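import Mathlib

/-!
A group in which normalisers of ℓ-subgroups induce automorphisms with trivial e-th power has no section with
a Frobenius group c ↦ c^a when a^e is not 1 modulo ℓ.
-/

set_option autoImplicit false
set_option linter.style.haveILetI false

namespace CfsgLib.AltSection

theorem pow_conj_pow {M : Type*} [Group M] {c s : M} {a : ℕ} (h : s * c * s⁻¹ = c ^ a) :
    ∀ n : ℕ, s ^ n * c * (s ^ n)⁻¹ = c ^ (a ^ n)
  | 0 => by simp
  | n + 1 => by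
    rw [pow_succ' s, show s * s ^ n * c * (s * s ^ n)⁻¹ = s * (s ^ n * c * (s ^ n)⁻¹) * s⁻¹ by group,
      pow_conj_pow h n, ← conj_pow, h, ← pow_mul, ← pow_succ']

theorem no_frobenius {G M : Type*} [Group G] [Group M] [Finite G] {ℓ a a' e : ℕ} [Fact ℓ.Prime]
    (H : Subgroup G) (π : ↥H →* M)
    (hπ : Function.Surjective π) {c s : M} (hc7 : c ^ ℓ = 1) (hc1 : c ≠ 1) (hs : s * c * s⁻¹ = c ^ a)
    (ha : a * a' % ℓ = 1) (he : a ^ e % ℓ ≠ 1)
    (hyp : ∀ Q : Subgroup G, IsPGroup ℓ Q → ∀ g : G, (∀ q ∈ Q, g * q * g⁻¹ ∈ Q) →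
      ∀ q ∈ Q, g ^ e * q * (g ^ e)⁻¹ = q) : False := by
  have ho : orderOf c = ℓ := orderOf_eq_prime hc7 hc1
  set Z := Subgroup.zpowers c with hZ
  set W := Subgroup.normalizer (Z : Set M) with hW
  set N := W.comap π with hN
  let ρ : ↥N →* M := π.comp N.subtype
  set K := Z.comap ρ with hK
  haveI : K.Normal := ⟨fun k hk g => by
    show ρ (g * k * g⁻¹) ∈ Z
    rw [map_mul, map_mul, map_inv]
    exact (Subgroup.mem_normalizer_iff.mp (show ρ g ∈ W from g.2) _).mp hk⟩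
  have hsW : s ∈ W := by
    have hmaps : ∀ z ∈ Z, s * z * s⁻¹ ∈ Z := by
      rintro _ ⟨i, rfl⟩
      rw [← conj_zpow, hs]
      exact zpow_mem (pow_mem (Subgroup.mem_zpowers c) a) i
    rw [hW, Subgroup.mem_normalizer_iff]
    refine fun z => ⟨hmaps z, fun h => ?_⟩
    obtain ⟨i, hi⟩ := h
    refine ⟨(a' : ℤ) * i, ?_⟩
    have hn : c ^ ((a : ℕ) * a') = c := by
      rw [← Nat.mod_add_div (a * a') ℓ, ha, pow_add, pow_mul, hc7, one_pow, pow_one, mul_one]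
    have e' : s * c ^ ((a' : ℤ) * i) * s⁻¹ = c ^ i := by
      rw [← conj_zpow, hs, zpow_mul, zpow_natCast, ← pow_mul, hn]
    exact mul_left_cancel (mul_right_cancel (e'.trans hi))
  obtain ⟨k, hk⟩ := hπ c
  have hkN : k ∈ N := by rw [hN, Subgroup.mem_comap, hk]; exact Subgroup.le_normalizer (Subgroup.mem_zpowers c)
  set k' : ↥K := ⟨⟨k, hkN⟩, show π k ∈ Z by rw [hk]; exact Subgroup.mem_zpowers c⟩
  obtain ⟨j, b, hb, hab⟩ := Nat.exists_eq_pow_mul_and_not_dvd (orderOf_pos k').ne' ℓ (Fact.out : ℓ.Prime).one_lt.ne'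
  have hq : IsPGroup ℓ (Subgroup.zpowers (k' ^ b)) := by
    intro x
    refine ⟨j, ?_⟩
    obtain ⟨i, hi⟩ := x.2
    refine Subtype.ext ?_
    show (x : ↥K) ^ ℓ ^ j = 1
    rw [← hi, ← zpow_natCast, ← zpow_mul, mul_comm, zpow_mul, zpow_natCast, ← pow_mul, mul_comm b, ← hab,
      pow_orderOf_eq_one, one_zpow]
  obtain ⟨P, hP⟩ := hq.exists_le_sylow
  obtain ⟨g₀, hg₀⟩ := hπ s
  have hg₀N : g₀ ∈ N := by rw [hN, Subgroup.mem_comap, hg₀]; exact hsW
  have hmem : (⟨g₀, hg₀N⟩ : ↥N) ∈ Subgroup.normalizer ((P : Subgroup ↥K).map K.subtype : Set ↥N) ⊔ K := by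
    rw [Sylow.normalizer_sup_eq_top P]; exact Subgroup.mem_top _
  rw [Subgroup.mem_sup_of_normal_right] at hmem
  obtain ⟨g, hg, l, hl, hgl⟩ := hmem
  set Q := ((P : Subgroup ↥K).map K.subtype).map (H.subtype.comp N.subtype) with hQ
  have hQ7 : IsPGroup ℓ Q := (P.isPGroup'.map _).map _
  have hQg : ∀ q ∈ Q, (H.subtype.comp N.subtype) g * q * ((H.subtype.comp N.subtype) g)⁻¹ ∈ Q := by
    rintro _ ⟨p, hp, rfl⟩
    rw [← map_inv, ← map_mul, ← map_mul]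
    exact Subgroup.mem_map_of_mem _ ((Subgroup.mem_normalizer_iff.mp hg p).mp hp)
  set q : ↥N := ((k' ^ b : ↥K) : ↥N) with hqdef
  have hqQ : (H.subtype.comp N.subtype) q ∈ Q :=
    Subgroup.mem_map_of_mem _ (Subgroup.mem_map_of_mem K.subtype (hP (Subgroup.mem_zpowers _)))
  have h := hyp Q hQ7 _ hQg _ hqQ
  rw [← map_pow, ← map_inv, ← map_mul, ← map_mul] at h
  have h' : g ^ e * q * (g ^ e)⁻¹ = q :=
    (H.subtype_injective.comp N.subtype_injective) h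
  have hρ := congrArg ρ h'
  rw [map_mul, map_mul, map_inv, map_pow] at hρ
  obtain ⟨i, hi⟩ : ρ l ∈ Z := hl
  have hρg : ρ g = s * (c ^ i)⁻¹ := by
    have e := congrArg ρ hgl
    rw [map_mul, ← hi] at e
    rw [eq_mul_inv_iff_mul_eq, e]
    exact hg₀
  have hgc : ρ g * c * (ρ g)⁻¹ = c ^ a := by
    rw [hρg, show s * (c ^ i)⁻¹ * c * (s * (c ^ i)⁻¹)⁻¹ = s * ((c ^ i)⁻¹ * c * c ^ i) * s⁻¹ by group,
      show (c ^ i)⁻¹ * c * c ^ i = c by group, hs]
  have hρq : ρ q = c ^ b := by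
    rw [hqdef, SubgroupClass.coe_pow, map_pow]
    exact congrArg (· ^ b) hk
  rw [hρq, ← conj_pow, pow_conj_pow hgc, ← pow_mul, pow_eq_pow_iff_modEq, ho] at hρ
  have h1 : a ^ e ≡ 1 [MOD ℓ] := by
    refine Nat.ModEq.cancel_right_of_coprime (c := b) ?_ (by rwa [one_mul])
    exact ((Fact.out : ℓ.Prime).coprime_iff_not_dvd.mpr hb).symm.symm
  exact he (by rw [h1, Nat.one_mod_eq_one.mpr (Fact.out : ℓ.Prime).ne_one])

end CfsgLib.AltSection
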