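import Cfsg.Agent.Lib.AltSection.ChevTwo
import Cfsg.Agent.Lib.Chev.WeylGroup
import Cfsg.Agent.Lib.Chev.OrderG2
import Cfsg.Agent.Lib.Chev.CoxeterG2

/-!
G₂ has no section with a Frobenius group of order twenty outside characteristic five, and none with the
alternating group of degree eight in characteristic five.
-/

set_option autoImplicit false
set_option linter.style.haveILetI false
set_option maxRecDepth 100000

namespace CfsgLib.Chev.G2Alt

open Cfsg.Lie Matrix CfsgLib.AltSection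

/-- The first or second fundamental root. -/
def gi : Bool → Fin Cfsg.Lie.chevG2.rank
  | false => ⟨0, by decide⟩
  | true => ⟨1, by decide⟩

/-- A permutation of roots read from a word in the fundamental reflections. -/
noncomputable def ev (w : List Bool) (s : Fin Cfsg.Lie.chevG2.nroots) : Fin Cfsg.Lie.chevG2.nroots :=
  w.foldr (fun i x => CfsgLib.Chev.chevG2.refl (gi i) x) s

/-- Words for the twelve elements of the Weyl group. -/
def words : List (List Bool) :=
  [[], [false], [true], [false, true], [true, false], [false, true, false], [true, false, true],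
    [false, true, false, true], [true, false, true, false], [false, true, false, true, false],
    [true, false, true, false, true], [false, true, false, true, false, true]]

theorem words_mul : ∀ i, ∀ w ∈ words, ∃ v ∈ words, ∀ s, CfsgLib.Chev.chevG2.refl i (ev w s) = ev v s := by
  decide +kernel

theorem words_pow : ∀ w ∈ words, ∀ s, ev (w ++ w ++ w ++ w ++ w ++ w) s = s := by decide +kernel

theorem ev_append (u v : List Bool) (s : Fin Cfsg.Lie.chevG2.nroots) : ev (u ++ v) s = ev u (ev v s) :=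
  List.foldr_append

theorem exists_word {π : Equiv.Perm (Fin Cfsg.Lie.chevG2.nroots)} (hπ : π ∈ CfsgLib.Chev.chevG2.WL) :
    ∃ w ∈ words, ∀ s, π s = ev w s := by
  unfold Chev.WL Chev.WK Chev.simpleRefl at hπ
  induction hπ using Subgroup.closure_induction_left with
  | one => exact ⟨[], List.mem_cons_self, fun s => rfl⟩
  | mul_left g hg y _ ih =>
    obtain ⟨i, -, rfl⟩ := hg
    obtain ⟨w, hw, he⟩ := ih
    obtain ⟨v, hv, hev⟩ := words_mul i w hw
    exact ⟨v, hv, fun s => by rw [← hev s, ← he s]; rfl⟩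
  | inv_mul_cancel g hg y _ ih =>
    obtain ⟨i, -, rfl⟩ := hg
    obtain ⟨w, hw, he⟩ := ih
    obtain ⟨v, hv, hev⟩ := words_mul i w hw
    exact ⟨v, hv, fun s => by rw [← hev s, ← he s, CfsgLib.Chev.chevG2.reflPerm_inv' i]; rfl⟩

theorem pow_six {π : Equiv.Perm (Fin Cfsg.Lie.chevG2.nroots)} (hπ : π ∈ CfsgLib.Chev.chevG2.WL) : π ^ 6 = 1 := by
  obtain ⟨w, hw, he⟩ := exists_word hπ
  refine Equiv.ext fun s => ?_
  simp only [pow_succ, pow_zero, one_mul]
  simp only [Equiv.Perm.mul_apply, Equiv.Perm.one_apply, he]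
  simp only [← ev_append]
  simpa [List.append_assoc] using words_pow w hw s

variable {F : Type*} [Field F] [Finite F]

theorem card_H : Nat.card (Cfsg.Lie.chevG2.diagonalSubgroup F) = (Nat.card F - 1) ^ 2 := by
  have h := cardHG2 CfsgLib.Chev.chevG2 F
  simpa [Fin.prod_univ_two] using h

theorem card_G : Nat.card (Cfsg.Lie.chevG2.group F) =
    Nat.card F ^ 6 * ((Nat.card F ^ 2 - 1) * (Nat.card F ^ 6 - 1)) := by
  have h := CfsgLib.Chev.chevG2.order_formula (F := F) (g := 1) (degs := [2, 6]) rfl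
    (by rw [one_mul]; exact card_H) (sumWG2 CfsgLib.Chev.chevG2)
  rw [one_mul, show Cfsg.Lie.chevG2.nroots / 2 = 6 from rfl] at h
  rw [h]
  simp

theorem index_T {r : ℕ} (hq : Nat.card F = r + 1) :
    ((Cfsg.Lie.chevG2.diagonalSubgroup F).subgroupOf (Cfsg.Lie.chevG2.group F)).index =
      (r + 1) ^ 6 * (r + 2) * ((r + 1) ^ 5 + (r + 1) ^ 4 + (r + 1) ^ 3 + (r + 1) ^ 2 + (r + 1) + 1) := by
  have hle : Cfsg.Lie.chevG2.diagonalSubgroup F ≤ Cfsg.Lie.chevG2.group F :=
    Chev.H_le_N.trans CfsgLib.Chev.chevG2.N_le_group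
  have h := ((Cfsg.Lie.chevG2.diagonalSubgroup F).subgroupOf (Cfsg.Lie.chevG2.group F)).card_mul_index
  rw [Nat.card_congr (Subgroup.subgroupOfEquivOfLe hle).toEquiv, card_H, card_G, hq, Nat.add_sub_cancel] at h
  have e2 : (r + 1) ^ 2 - 1 = r * (r + 2) := Nat.sub_eq_of_eq_add (by ring)
  have e6 : (r + 1) ^ 6 - 1 = r * ((r + 1) ^ 5 + (r + 1) ^ 4 + (r + 1) ^ 3 + (r + 1) ^ 2 + (r + 1) + 1) :=
    Nat.sub_eq_of_eq_add (by ring)
  rw [e2, e6] at h
  have hr : 0 < r := by
    have := (Finite.one_lt_card : 1 < Nat.card F)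
    omega
  have hr2 : 0 < r ^ 2 := by positivity
  refine Nat.eq_of_mul_eq_mul_left hr2 (h.trans ?_)
  ring

theorem five_not_dvd (hq : Nat.card F % 5 = 1) :
    ¬ 5 ∣ ((Cfsg.Lie.chevG2.diagonalSubgroup F).subgroupOf (Cfsg.Lie.chevG2.group F)).index := by
  obtain ⟨r, hr⟩ : ∃ r, Nat.card F = r + 1 := ⟨Nat.card F - 1, by omega⟩
  rw [index_T hr, ← ZMod.natCast_eq_zero_iff]
  push_cast
  have h0 : (r : ZMod 5) = 0 := by
    rw [ZMod.natCast_eq_zero_iff]; omega
  rw [h0]
  decide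

theorem index_N (hq : Nat.card F % 4 = 1) :
    ¬ 2 ∣ ((Cfsg.Lie.chevG2.monomialSubgroup F).subgroupOf (Cfsg.Lie.chevG2.group F)).index := by
  obtain ⟨t, ht⟩ : ∃ t, Nat.card F = 4 * t + 1 := ⟨Nat.card F / 4, by omega⟩
  have h := Subgroup.relIndex_mul_relIndex (Cfsg.Lie.chevG2.diagonalSubgroup F)
    (Cfsg.Lie.chevG2.monomialSubgroup F) (Cfsg.Lie.chevG2.group F) Chev.H_le_N CfsgLib.Chev.chevG2.N_le_group
  rw [CfsgLib.Chev.chevG2.relIndex_H_N, cardWG2] at h
  unfold Subgroup.relIndex at h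
  rw [index_T ht] at h
  generalize ((Cfsg.Lie.chevG2.monomialSubgroup F).subgroupOf (Cfsg.Lie.chevG2.group F)).index = i at h
  intro hi
  have e : (4 * t + 2) * ((4 * t + 1) ^ 5 + (4 * t + 1) ^ 4 + (4 * t + 1) ^ 3 + (4 * t + 1) ^ 2 + (4 * t + 1) + 1) =
      4 * ((2 * t + 1) * (512 * t ^ 5 + 768 * t ^ 4 + 480 * t ^ 3 + 160 * t ^ 2 + 30 * t + 3)) := by ring
  rw [mul_assoc ((4 * t + 1) ^ 6), show 4 * t + 2 = 4 * t + 2 from rfl, e] at h
  have hcast : ((12 * i : ℕ) : ZMod 8) =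
      ((4 * t + 1 : ℕ) : ZMod 8) ^ 6 * (4 * ((2 * t + 1 : ℕ) * (512 * t ^ 5 + 768 * t ^ 4 + 480 * t ^ 3 + 160 * t ^ 2 + 30 * t + 3 : ℕ))) := by
    rw [h]; push_cast; ring
  obtain ⟨j, rfl⟩ := hi
  push_cast at hcast
  rw [show (12 : ZMod 8) * (2 * (j : ZMod 8)) = 0 by rw [← mul_assoc, show (12 : ZMod 8) * 2 = 0 by decide, zero_mul],
    show (512 : ZMod 8) = 0 by decide, show (768 : ZMod 8) = 0 by decide, show (480 : ZMod 8) = 0 by decide,
    show (160 : ZMod 8) = 0 by decide] at hcast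
  generalize (t : ZMod 8) = x at hcast
  revert hcast
  revert x
  decide

theorem no_frobenius_twenty {M : Type*} [Group M] (hq : Nat.card F % 5 = 1)
    (H : Subgroup ↥(Cfsg.Lie.chevG2.group F)) (π : ↥H →* M) (hπ : Function.Surjective π)
    {c s : M} (hc : c ^ 5 = 1) (hc1 : c ≠ 1) (hs : s * c * s⁻¹ = c ^ 2) : False := by
  haveI := Fact.mk (show (5 : ℕ).Prime by norm_num)
  exact no_frobenius (ℓ := 5) (a := 2) (a' := 3) (e := 6) H π hπ hc hc1 hs (by norm_num) (by norm_num)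
    (CfsgLib.Chev.chevG2.automiser_bound (five_not_dvd hq) fun π hπ => pow_six hπ)

theorem no_a8 (hq : Nat.card F % 4 = 1) (H : Subgroup ↥(Cfsg.Lie.chevG2.group F))
    (π : ↥H →* ↥(alternatingGroup (Fin 8))) (hπ : Function.Surjective π) : False :=
  CfsgLib.Chev.chevG2.no_a8_section rfl (by rw [cardWG2]; norm_num) (index_N hq) H π hπ

end CfsgLib.Chev.G2Alt
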