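import Cfsg.Agent.Lib.AltSection.ChevTorus
import Cfsg.Agent.Lib.AltSection.Transfer

/-!
Lifting two commuting elements of different prime orders with a common normalising element from a section of a
Chevalley group into the normaliser of a split torus.
-/

set_option autoImplicit false
set_option linter.unusedSectionVars false
set_option linter.style.haveILetI false

namespace CfsgLib.AltSection

/-- Frattini: a normal ℓ-subgroup of an image is the image of an ℓ-subgroup whose normaliser still maps onto. -/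
theorem exists_pgroup_normalizer {G M : Type*} [Group G] [Group M] [Finite G] {ℓ : ℕ} [Fact ℓ.Prime]
    (N : Subgroup G) (π : ↥N →* M) (hπ : Function.Surjective π) (Z : Subgroup M) [Z.Normal] (hZ : IsPGroup ℓ Z) :
    ∃ P : Subgroup G, IsPGroup ℓ P ∧ P ≤ N ∧ (∀ z ∈ Z, ∃ p : ↥N, (p : G) ∈ P ∧ π p = z) ∧
      ∀ m, ∃ g : ↥N, (g : G) ∈ Subgroup.normalizer (P : Set G) ∧ π g = m := by
  haveI : Finite M := Finite.of_surjective π hπ
  let K : Subgroup ↥N := Z.comap π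
  let ρ : ↥K →* ↥Z := (π.comp K.subtype).codRestrict Z fun x => x.2
  have hρ : Function.Surjective ρ := by
    rintro ⟨y, hy⟩
    obtain ⟨x, rfl⟩ := hπ y
    exact ⟨⟨x, hy⟩, rfl⟩
  obtain ⟨S⟩ : Nonempty (Sylow ℓ ↥K) := inferInstance
  have htop : (S : Subgroup ↥K).map ρ = ⊤ :=
    ((S.mapSurjective hρ).is_maximal' (hZ.of_equiv Subgroup.topEquiv.symm) le_top).symm
  have hz : ∀ z ∈ Z, ∃ p : ↥K, p ∈ (S : Subgroup ↥K) ∧ π p = z := by
    intro z hzZ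
    have hm : (⟨z, hzZ⟩ : ↥Z) ∈ (S : Subgroup ↥K).map ρ := htop ▸ Subgroup.mem_top _
    obtain ⟨x, hx, e⟩ := hm
    exact ⟨x, hx, congrArg Subtype.val e⟩
  refine ⟨((S : Subgroup ↥K).map K.subtype).map N.subtype, (S.isPGroup'.map _).map _, ?_, ?_, ?_⟩
  · rintro _ ⟨x, -, rfl⟩
    exact x.2
  · intro z hzZ
    obtain ⟨p, hp, e⟩ := hz z hzZ
    exact ⟨p, Subgroup.mem_map_of_mem _ (Subgroup.mem_map_of_mem _ hp), e⟩
  · intro m
    obtain ⟨x, rfl⟩ := hπ m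
    have hmem : x ∈ Subgroup.normalizer ((S : Subgroup ↥K).map K.subtype : Set ↥N) ⊔ K := by
      rw [Sylow.normalizer_sup_eq_top S]; exact Subgroup.mem_top _
    rw [Subgroup.mem_sup_of_normal_right] at hmem
    obtain ⟨g, hg, l, hl, rfl⟩ := hmem
    obtain ⟨q, hq, e⟩ := hz (π l) hl
    refine ⟨g * q, ?_, by rw [map_mul, map_mul, e]⟩
    have hqn : (q : ↥N) ∈ Subgroup.normalizer ((S : Subgroup ↥K).map K.subtype : Set ↥N) :=
      Subgroup.le_normalizer (Subgroup.mem_map_of_mem _ hq)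
    exact Subgroup.le_normalizer_map N.subtype (Subgroup.mem_map_of_mem _ (mul_mem hg hqn))

theorem exists_lift_pair {G M : Type*} [Group G] [Group M] [Finite G] {ℓ₁ ℓ₂ : ℕ} [Fact ℓ₁.Prime]
    [Fact ℓ₂.Prime] (H : Subgroup G) (π : ↥H →* M) (hπ : Function.Surjective π) {c₁ c₂ s : M}
    (h1 : c₁ ^ ℓ₁ = 1) (h2 : c₂ ^ ℓ₂ = 1) (hcc : c₁ * c₂ = c₂ * c₁) {a₁ a₂ : ℕ}
    (hs1 : s * c₁ * s⁻¹ = c₁ ^ a₁) (hs2 : s * c₂ * s⁻¹ = c₂ ^ a₂) :
    ∃ (P S : Subgroup G) (q₁ q₂ g : ↥H), IsPGroup ℓ₁ P ∧ IsPGroup ℓ₂ S ∧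
      (∀ x ∈ S, ∀ p ∈ P, x * p * x⁻¹ ∈ P) ∧
      (q₁ : G) ∈ P ∧ (q₂ : G) ∈ S ∧ (∀ p ∈ P, (g : G) * p * (g : G)⁻¹ ∈ P) ∧
      (∀ p ∈ S, (g : G) * p * (g : G)⁻¹ ∈ S) ∧ π q₁ = c₁ ∧ π q₂ = c₂ ∧ π g = s := by
  haveI : Finite M := Finite.of_surjective π hπ
  have hmaps : ∀ {c t : M} {a : ℕ}, t * c * t⁻¹ = c ^ a → t ∈ Subgroup.normalizer (Subgroup.zpowers c : Set M) := by
    intro c t a h
    have hmap : (Subgroup.zpowers c).map (MulAut.conj t).toMonoidHom ≤ Subgroup.zpowers c := by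
      rintro _ ⟨_, ⟨i, rfl⟩, rfl⟩
      show t * c ^ i * t⁻¹ ∈ _
      rw [← conj_zpow, h]
      exact zpow_mem (pow_mem (Subgroup.mem_zpowers c) a) i
    have heq : (Subgroup.zpowers c).map (MulAut.conj t).toMonoidHom = Subgroup.zpowers c :=
      Subgroup.eq_of_le_of_card_ge hmap
        (le_of_eq (Subgroup.card_map_of_injective (MulAut.conj t).injective).symm)
    rw [Subgroup.mem_normalizer_iff]
    intro z
    constructor
    · intro hz; exact hmap ⟨z, hz, rfl⟩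
    · intro hz
      rw [← heq] at hz
      obtain ⟨w, hw, e⟩ := hz
      have e' : t * w * t⁻¹ = t * z * t⁻¹ := e
      exact mul_left_cancel (mul_right_cancel e') ▸ hw
  set W := Subgroup.normalizer (Subgroup.zpowers c₁ : Set M) ⊓ Subgroup.normalizer (Subgroup.zpowers c₂ : Set M)
  have hsW : s ∈ W := ⟨hmaps hs1, hmaps hs2⟩
  have hc1W : c₁ ∈ W := ⟨hmaps (a := 1) (by group), hmaps (a := 1) (by rw [hcc]; group)⟩
  have hc2W : c₂ ∈ W := ⟨hmaps (a := 1) (by rw [← hcc]; group), hmaps (a := 1) (by group)⟩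
  have hnorm : ∀ c : M, W ≤ Subgroup.normalizer (Subgroup.zpowers c : Set M) →
      ((Subgroup.zpowers c).subgroupOf W).Normal := fun c h =>
    ⟨fun n hn g => (Subgroup.mem_normalizer_iff.mp (h g.2) _).mp hn⟩
  have hp : ∀ {ℓ : ℕ} (c : M), c ^ ℓ = 1 → IsPGroup ℓ ↥((Subgroup.zpowers c).subgroupOf W) := by
    intro ℓ c hc x
    obtain ⟨i, hi⟩ := Subgroup.mem_subgroupOf.mp x.2
    refine ⟨1, Subtype.ext (Subtype.ext ?_)⟩
    show ((x : ↥W) : M) ^ ℓ ^ 1 = 1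
    rw [← hi, pow_one, ← zpow_natCast, ← zpow_mul, mul_comm, zpow_mul, zpow_natCast, hc, one_zpow]
  let N : Subgroup G := (W.comap π).map H.subtype
  have hNH : N ≤ H := by
    rintro _ ⟨x, -, rfl⟩
    exact x.2
  have hNW : ∀ n : ↥N, π (Subgroup.inclusion hNH n) ∈ W := by
    rintro ⟨_, x, hx, rfl⟩
    exact hx
  let π₀ : ↥N →* ↥W := (π.comp (Subgroup.inclusion hNH)).codRestrict W hNW
  have hπ₀ : Function.Surjective π₀ := by
    rintro ⟨y, hy⟩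
    obtain ⟨x, rfl⟩ := hπ y
    exact ⟨⟨(x : G), x, hy, rfl⟩, rfl⟩
  have hval : ∀ (n : ↥N) (h : ↥H), (h : G) = n → ((π₀ n : ↥W) : M) = π h := fun n h e =>
    congrArg π (Subtype.ext e.symm : Subgroup.inclusion hNH n = h)
  haveI := hnorm c₁ inf_le_left
  haveI := hnorm c₂ inf_le_right
  obtain ⟨P, hP, hPN, hPz, hPg⟩ := exists_pgroup_normalizer N π₀ hπ₀ _ (hp (ℓ := ℓ₁) c₁ h1)
  let N₁ : Subgroup G := Subgroup.normalizer (P : Set G) ⊓ N
  let π₁ : ↥N₁ →* ↥W := π₀.comp (Subgroup.inclusion inf_le_right)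
  have hπ₁ : Function.Surjective π₁ := by
    intro m
    obtain ⟨g, hg, e⟩ := hPg m
    exact ⟨⟨g, hg, g.2⟩, e⟩
  obtain ⟨S, hS, hSN, hSz, hSg⟩ := exists_pgroup_normalizer N₁ π₁ hπ₁ _ (hp (ℓ := ℓ₂) c₂ h2)
  obtain ⟨p₁, hp₁, e₁⟩ := hPz ⟨c₁, hc1W⟩ (Subgroup.mem_subgroupOf.mpr (Subgroup.mem_zpowers c₁))
  obtain ⟨p₂, hp₂, e₂⟩ := hSz ⟨c₂, hc2W⟩ (Subgroup.mem_subgroupOf.mpr (Subgroup.mem_zpowers c₂))
  obtain ⟨g, hg, eg⟩ := hSg ⟨s, hsW⟩
  refine ⟨P, S, ⟨p₁, hNH p₁.2⟩, ⟨p₂, hNH p₂.2.2⟩, ⟨g, hNH g.2.2⟩, hP, hS, ?_, hp₁, hp₂, ?_, ?_, ?_, ?_, ?_⟩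
  · exact fun x hx p hp' => (Subgroup.mem_normalizer_iff.mp (hSN hx).1 p).mp hp'
  · exact fun p hp' => (Subgroup.mem_normalizer_iff.mp g.2.1 p).mp hp'
  · exact fun p hp' => (Subgroup.mem_normalizer_iff.mp hg p).mp hp'
  · rw [← hval p₁ _ rfl, e₁]
  · rw [← hval (Subgroup.inclusion inf_le_right p₂) _ rfl]
    exact congrArg Subtype.val e₂
  · rw [← hval (Subgroup.inclusion inf_le_right g) _ rfl]
    exact congrArg Subtype.val eg

end CfsgLib.AltSection
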